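import Cfsg.Prelude.Def_ClassicalGeometry

set_option autoImplicit false

namespace Cfsg.Agent.Lib.Helper17

open Matrix

section CommRing

variable {F : Type*} [CommRing F] (m : ℕ)

/-- `sympForm` as a bilinear form. -/
noncomputable def sympB (m : ℕ) (F : Type*) [CommRing F] : LinearMap.BilinForm F (Fin m ⊕ Fin m → F) :=
  Matrix.toBilin' (Matrix.J (Fin m) F)

theorem sympB_apply (u v : Fin m ⊕ Fin m → F) : sympB m F u v = Cfsg.sympForm m F u v := by
  simp [sympB, Cfsg.sympForm, Matrix.toBilin'_apply']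

theorem sympForm_eq_sum (u v : Fin m ⊕ Fin m → F) :
    Cfsg.sympForm m F u v = ∑ i : Fin m, (u (Sum.inr i) * v (Sum.inl i) - u (Sum.inl i) * v (Sum.inr i)) := by
  classical
  simp only [Cfsg.sympForm, dotProduct, Matrix.mulVec, Matrix.J, Fintype.sum_sum_type, Matrix.fromBlocks_apply₁₁,
    Matrix.fromBlocks_apply₁₂, Matrix.fromBlocks_apply₂₁, Matrix.fromBlocks_apply₂₂, Matrix.zero_apply,
    Matrix.neg_apply, Matrix.one_apply, zero_mul, Finset.sum_const_zero, zero_add, add_zero, neg_mul, ite_mul,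
    one_mul, Finset.sum_neg_distrib, Finset.sum_ite_eq, Finset.mem_univ, if_true, mul_neg, Finset.sum_sub_distrib]
  ring

theorem sympForm_self (v : Fin m ⊕ Fin m → F) : Cfsg.sympForm m F v v = 0 := by
  rw [sympForm_eq_sum]
  apply Finset.sum_eq_zero
  intro i _
  ring

theorem sympForm_swap (u v : Fin m ⊕ Fin m → F) : Cfsg.sympForm m F u v = - Cfsg.sympForm m F v u := by
  rw [sympForm_eq_sum, sympForm_eq_sum, ← Finset.sum_neg_distrib]
  apply Finset.sum_congr rfl
  intro i _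
  ring

theorem sympForm_add_left (u u' v : Fin m ⊕ Fin m → F) :
    Cfsg.sympForm m F (u + u') v = Cfsg.sympForm m F u v + Cfsg.sympForm m F u' v := by
  simp only [← sympB_apply, map_add, LinearMap.add_apply]

theorem sympForm_add_right (u v v' : Fin m ⊕ Fin m → F) :
    Cfsg.sympForm m F u (v + v') = Cfsg.sympForm m F u v + Cfsg.sympForm m F u v' := by
  simp only [← sympB_apply, map_add]

theorem sympForm_sub_left (u u' v : Fin m ⊕ Fin m → F) :
    Cfsg.sympForm m F (u - u') v = Cfsg.sympForm m F u v - Cfsg.sympForm m F u' v := by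
  simp only [← sympB_apply, map_sub, LinearMap.sub_apply]

theorem sympForm_sub_right (u v v' : Fin m ⊕ Fin m → F) :
    Cfsg.sympForm m F u (v - v') = Cfsg.sympForm m F u v - Cfsg.sympForm m F u v' := by
  simp only [← sympB_apply, map_sub]

theorem sympForm_smul_left (a : F) (u v : Fin m ⊕ Fin m → F) :
    Cfsg.sympForm m F (a • u) v = a * Cfsg.sympForm m F u v := by
  simp only [← sympB_apply, map_smul, LinearMap.smul_apply, smul_eq_mul]

theorem sympForm_smul_right (a : F) (u v : Fin m ⊕ Fin m → F) :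
    Cfsg.sympForm m F u (a • v) = a * Cfsg.sympForm m F u v := by
  simp only [← sympB_apply, map_smul, smul_eq_mul]

theorem sympForm_zero_left (v : Fin m ⊕ Fin m → F) : Cfsg.sympForm m F 0 v = 0 := by
  simp only [← sympB_apply, map_zero, LinearMap.zero_apply]

theorem sympForm_zero_right (v : Fin m ⊕ Fin m → F) : Cfsg.sympForm m F v 0 = 0 := by
  simp only [← sympB_apply, map_zero]

theorem sympForm_single_inl_right (u : Fin m ⊕ Fin m → F) (i : Fin m) :
    Cfsg.sympForm m F u (Pi.single (Sum.inl i) 1) = u (Sum.inr i) := by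
  classical
  rw [sympForm_eq_sum]
  simp [Pi.single_apply]

theorem sympForm_single_inr_right (u : Fin m ⊕ Fin m → F) (i : Fin m) :
    Cfsg.sympForm m F u (Pi.single (Sum.inr i) 1) = - u (Sum.inl i) := by
  classical
  rw [sympForm_eq_sum]
  simp [Pi.single_apply]

theorem sympForm_left_eq_zero {u : Fin m ⊕ Fin m → F} (h : ∀ v, Cfsg.sympForm m F u v = 0) : u = 0 := by
  funext i
  rcases i with i | i
  · have := h (Pi.single (Sum.inr i) 1)
    rw [sympForm_single_inr_right] at this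
    simpa using this
  · have := h (Pi.single (Sum.inl i) 1)
    rw [sympForm_single_inl_right] at this
    simpa using this

theorem mem_symplecticGroup_iff_sympForm {A : Matrix (Fin m ⊕ Fin m) (Fin m ⊕ Fin m) F} :
    A ∈ Matrix.symplecticGroup (Fin m) F ↔
      ∀ u v, Cfsg.sympForm m F (A *ᵥ u) (A *ᵥ v) = Cfsg.sympForm m F u v := by
  rw [SymplecticGroup.mem_iff']
  constructor
  · intro h u v
    simp only [Cfsg.sympForm]
    rw [Matrix.mulVec_mulVec, ← Matrix.vecMul_transpose, Matrix.dotProduct_mulVec, Matrix.vecMul_vecMul,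
      ← Matrix.dotProduct_mulVec, ← Matrix.mul_assoc, h]
  · intro h
    have h2 : Matrix.toBilin' (Aᵀ * Matrix.J (Fin m) F * A) = Matrix.toBilin' (Matrix.J (Fin m) F) := by
      ext u v
      have := h (Pi.single u 1) (Pi.single v 1)
      simp only [Cfsg.sympForm] at this
      rw [Matrix.mulVec_mulVec, ← Matrix.vecMul_transpose, Matrix.dotProduct_mulVec, Matrix.vecMul_vecMul,
        ← Matrix.dotProduct_mulVec, ← Matrix.mul_assoc] at this
      simpa [Matrix.toBilin'_apply'] using this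
    exact Matrix.toBilin'.injective h2

theorem sympTransvection_mulVec (v : Fin m ⊕ Fin m → F) (c : F) (x : Fin m ⊕ Fin m → F) :
    Cfsg.sympTransvection m v c *ᵥ x = x + (c * Cfsg.sympForm m F x v) • v := by
  simp only [Cfsg.sympTransvection, Matrix.add_mulVec, Matrix.one_mulVec, Matrix.smul_mulVec,
    Matrix.vecMulVec_mulVec, Cfsg.sympForm]
  rw [dotProduct_comm x]
  funext i
  simp only [Pi.add_apply, Pi.smul_apply, smul_eq_mul, MulOpposite.smul_eq_mul_unop, MulOpposite.unop_op]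
  ring

theorem sympTransvection_mem (v : Fin m ⊕ Fin m → F) (c : F) :
    Cfsg.sympTransvection m v c ∈ Matrix.symplecticGroup (Fin m) F := by
  rw [mem_symplecticGroup_iff_sympForm]
  intro x y
  simp only [sympTransvection_mulVec, sympForm_add_left, sympForm_add_right, sympForm_smul_left,
    sympForm_smul_right, sympForm_self]
  rw [sympForm_swap m v y]
  ring

theorem sympTransvection_mul (v : Fin m ⊕ Fin m → F) (c d : F) :
    Cfsg.sympTransvection m v c * Cfsg.sympTransvection m v d = Cfsg.sympTransvection m v (c + d) := by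
  rw [Matrix.ext_iff_mulVec]
  intro x
  rw [← Matrix.mulVec_mulVec]
  simp only [sympTransvection_mulVec, sympForm_add_left, sympForm_smul_left, sympForm_self]
  simp only [mul_zero, add_zero, add_mul, add_smul]
  abel

end CommRing

section Field

variable {F : Type*} [Field F] (m : ℕ)

theorem sp_coe_mul_mulVec (A B : Matrix.symplecticGroup (Fin m) F) (x : Fin m ⊕ Fin m → F) :
    ((A * B : Matrix.symplecticGroup (Fin m) F) : Matrix (Fin m ⊕ Fin m) (Fin m ⊕ Fin m) F) *ᵥ x =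
      (A : Matrix (Fin m ⊕ Fin m) (Fin m ⊕ Fin m) F) *ᵥ
        ((B : Matrix (Fin m ⊕ Fin m) (Fin m ⊕ Fin m) F) *ᵥ x) := by
  rw [Matrix.mulVec_mulVec, Submonoid.coe_mul]

theorem sp_inv_mulVec (A : Matrix.symplecticGroup (Fin m) F) (x : Fin m ⊕ Fin m → F) :
    ((A⁻¹ : Matrix.symplecticGroup (Fin m) F) : Matrix (Fin m ⊕ Fin m) (Fin m ⊕ Fin m) F) *ᵥ
      ((A : Matrix (Fin m ⊕ Fin m) (Fin m ⊕ Fin m) F) *ᵥ x) = x := by
  rw [← sp_coe_mul_mulVec, inv_mul_cancel, Submonoid.coe_one, Matrix.one_mulVec]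

theorem sp_mulVec_inv (A : Matrix.symplecticGroup (Fin m) F) (x : Fin m ⊕ Fin m → F) :
    (A : Matrix (Fin m ⊕ Fin m) (Fin m ⊕ Fin m) F) *ᵥ
      (((A⁻¹ : Matrix.symplecticGroup (Fin m) F) : Matrix (Fin m ⊕ Fin m) (Fin m ⊕ Fin m) F) *ᵥ x) = x := by
  rw [← sp_coe_mul_mulVec, mul_inv_cancel, Submonoid.coe_one, Matrix.one_mulVec]

theorem sp_sympForm (A : Matrix.symplecticGroup (Fin m) F) (x y : Fin m ⊕ Fin m → F) :
    Cfsg.sympForm m F ((A : Matrix (Fin m ⊕ Fin m) (Fin m ⊕ Fin m) F) *ᵥ x)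
      ((A : Matrix (Fin m ⊕ Fin m) (Fin m ⊕ Fin m) F) *ᵥ y) = Cfsg.sympForm m F x y :=
  (mem_symplecticGroup_iff_sympForm m).mp A.2 x y

/-- The symplectic transvections with direction in the subspace `W`. -/
def transvSet (W : Submodule F (Fin m ⊕ Fin m → F)) : Set (Matrix.symplecticGroup (Fin m) F) :=
  {A | ∃ w ∈ W, ∃ c : F, (A : Matrix (Fin m ⊕ Fin m) (Fin m ⊕ Fin m) F) = Cfsg.sympTransvection m w c}

theorem transvSet_mono {W W' : Submodule F (Fin m ⊕ Fin m → F)} (h : W ≤ W') :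
    transvSet m W ⊆ transvSet m W' := by
  rintro A ⟨w, hw, c, hA⟩
  exact ⟨w, h hw, c, hA⟩

theorem closure_transvSet_sub_mem {W : Submodule F (Fin m ⊕ Fin m → F)}
    {A : Matrix.symplecticGroup (Fin m) F} (hA : A ∈ Subgroup.closure (transvSet m W))
    (x : Fin m ⊕ Fin m → F) : (A : Matrix (Fin m ⊕ Fin m) (Fin m ⊕ Fin m) F) *ᵥ x - x ∈ W := by
  induction hA using Subgroup.closure_induction generalizing x with
  | mem A hA =>
    obtain ⟨w, hw, c, hA⟩ := hA
    rw [hA, sympTransvection_mulVec, add_sub_cancel_left]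
    exact W.smul_mem _ hw
  | one => simp
  | mul A B _ _ hA hB =>
    rw [sp_coe_mul_mulVec]
    have := W.add_mem (hA ((B : Matrix (Fin m ⊕ Fin m) (Fin m ⊕ Fin m) F) *ᵥ x)) (hB x)
    simpa using this
  | inv A _ hA =>
    have := hA (((A⁻¹ : Matrix.symplecticGroup (Fin m) F) : Matrix (Fin m ⊕ Fin m) (Fin m ⊕ Fin m) F) *ᵥ x)
    rw [sp_mulVec_inv] at this
    have h2 := W.neg_mem this
    simpa using h2

theorem closure_transvSet_mem {W : Submodule F (Fin m ⊕ Fin m → F)}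
    {A : Matrix.symplecticGroup (Fin m) F} (hA : A ∈ Subgroup.closure (transvSet m W))
    {x : Fin m ⊕ Fin m → F} (hx : x ∈ W) : (A : Matrix (Fin m ⊕ Fin m) (Fin m ⊕ Fin m) F) *ᵥ x ∈ W := by
  have := W.add_mem (closure_transvSet_sub_mem m hA x) hx
  simpa using this

theorem closure_transvSet_fix {W : Submodule F (Fin m ⊕ Fin m → F)}
    {A : Matrix.symplecticGroup (Fin m) F} (hA : A ∈ Subgroup.closure (transvSet m W))
    {x : Fin m ⊕ Fin m → F} (hx : ∀ w ∈ W, Cfsg.sympForm m F x w = 0) :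
    (A : Matrix (Fin m ⊕ Fin m) (Fin m ⊕ Fin m) F) *ᵥ x = x := by
  induction hA using Subgroup.closure_induction with
  | mem A hA =>
    obtain ⟨w, hw, c, hA⟩ := hA
    rw [hA, sympTransvection_mulVec, hx w hw]
    simp
  | one => simp
  | mul A B _ _ hA hB => rw [sp_coe_mul_mulVec, hB, hA]
  | inv A _ hA =>
    conv_lhs => rw [← hA]
    rw [sp_inv_mulVec]

theorem exists_transv_of_ne_zero {W : Submodule F (Fin m ⊕ Fin m → F)} {u u' : Fin m ⊕ Fin m → F}
    (hu : u ∈ W) (hu' : u' ∈ W) (h : Cfsg.sympForm m F u u' ≠ 0) :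
    ∃ A ∈ Subgroup.closure (transvSet m W),
      (A : Matrix (Fin m ⊕ Fin m) (Fin m ⊕ Fin m) F) *ᵥ u = u' ∧
      ∀ x, Cfsg.sympForm m F x u = Cfsg.sympForm m F x u' →
        (A : Matrix (Fin m ⊕ Fin m) (Fin m ⊕ Fin m) F) *ᵥ x = x := by
  refine ⟨⟨Cfsg.sympTransvection m (u' - u) (Cfsg.sympForm m F u u')⁻¹, sympTransvection_mem m _ _⟩,
    Subgroup.subset_closure ⟨u' - u, W.sub_mem hu' hu, _, rfl⟩, ?_, ?_⟩
  · simp only [sympTransvection_mulVec, sympForm_sub_right, sympForm_self, sub_zero]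
    rw [inv_mul_cancel₀ h, one_smul]
    abel
  · intro x hx
    simp only [sympTransvection_mulVec, sympForm_sub_right, hx, sub_self, mul_zero, zero_smul, add_zero]

theorem exists_closure_transv_vec {W : Submodule F (Fin m ⊕ Fin m → F)}
    (hW : ∀ u ∈ W, u ≠ 0 → ∃ a ∈ W, Cfsg.sympForm m F u a ≠ 0) {u u' : Fin m ⊕ Fin m → F}
    (hu : u ∈ W) (hu' : u' ∈ W) (hu0 : u ≠ 0) (hu0' : u' ≠ 0) :
    ∃ A ∈ Subgroup.closure (transvSet m W),
      (A : Matrix (Fin m ⊕ Fin m) (Fin m ⊕ Fin m) F) *ᵥ u = u' := by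
  by_cases h : Cfsg.sympForm m F u u' = 0
  · have hz : ∃ z ∈ W, Cfsg.sympForm m F u z ≠ 0 ∧ Cfsg.sympForm m F u' z ≠ 0 := by
      obtain ⟨a, haW, ha⟩ := hW u hu hu0
      obtain ⟨b, hbW, hb⟩ := hW u' hu' hu0'
      by_cases h1 : Cfsg.sympForm m F u' a = 0
      · by_cases h2 : Cfsg.sympForm m F u b = 0
        · refine ⟨a + b, W.add_mem haW hbW, ?_, ?_⟩
          · rw [sympForm_add_right, h2, add_zero]; exact ha
          · rw [sympForm_add_right, h1, zero_add]; exact hb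
        · exact ⟨b, hbW, h2, hb⟩
      · exact ⟨a, haW, ha, h1⟩
    obtain ⟨z, hzW, hz1, hz2⟩ := hz
    obtain ⟨A, hA, hAu, -⟩ := exists_transv_of_ne_zero m hu hzW hz1
    have hz3 : Cfsg.sympForm m F z u' ≠ 0 := by
      rw [sympForm_swap]; exact neg_ne_zero.mpr hz2
    obtain ⟨B, hB, hBz, -⟩ := exists_transv_of_ne_zero m hzW hu' hz3
    exact ⟨B * A, mul_mem hB hA, by rw [sp_coe_mul_mulVec, hAu, hBz]⟩
  · obtain ⟨A, hA, hAu, -⟩ := exists_transv_of_ne_zero m hu hu' h
    exact ⟨A, hA, hAu⟩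

theorem exists_closure_transv_fix {W : Submodule F (Fin m ⊕ Fin m → F)} {u v v' : Fin m ⊕ Fin m → F}
    (hu : u ∈ W) (hv : v ∈ W) (hv' : v' ∈ W) (h : Cfsg.sympForm m F u v = 1)
    (h' : Cfsg.sympForm m F u v' = 1) :
    ∃ A ∈ Subgroup.closure (transvSet m W),
      (A : Matrix (Fin m ⊕ Fin m) (Fin m ⊕ Fin m) F) *ᵥ u = u ∧
      (A : Matrix (Fin m ⊕ Fin m) (Fin m ⊕ Fin m) F) *ᵥ v = v' := by
  by_cases h0 : Cfsg.sympForm m F v v' = 0
  · have h1 : Cfsg.sympForm m F v (u + v) ≠ 0 := by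
      rw [sympForm_add_right, sympForm_self, add_zero, sympForm_swap, h]
      exact neg_ne_zero.mpr one_ne_zero
    have h2 : Cfsg.sympForm m F (u + v) v' ≠ 0 := by
      rw [sympForm_add_left, h0, add_zero, h']
      exact one_ne_zero
    obtain ⟨A, hA, hAv, hAfix⟩ := exists_transv_of_ne_zero m hv (W.add_mem hu hv) h1
    obtain ⟨B, hB, hBv, hBfix⟩ := exists_transv_of_ne_zero m (W.add_mem hu hv) hv' h2
    refine ⟨B * A, mul_mem hB hA, ?_, ?_⟩
    · rw [sp_coe_mul_mulVec, hAfix u (by rw [sympForm_add_right, sympForm_self, zero_add]),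
        hBfix u (by rw [sympForm_add_right, sympForm_self, zero_add, h, h'])]
    · rw [sp_coe_mul_mulVec, hAv, hBv]
  · obtain ⟨A, hA, hAv, hAfix⟩ := exists_transv_of_ne_zero m hv hv' h0
    exact ⟨A, hA, hAfix u (by rw [h, h']), hAv⟩

theorem exists_closure_transv_pair {W : Submodule F (Fin m ⊕ Fin m → F)}
    (hW : ∀ u ∈ W, u ≠ 0 → ∃ a ∈ W, Cfsg.sympForm m F u a ≠ 0) {u v u' v' : Fin m ⊕ Fin m → F}
    (hu : u ∈ W) (hv : v ∈ W) (hu' : u' ∈ W) (hv' : v' ∈ W) (h : Cfsg.sympForm m F u v = 1)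
    (h' : Cfsg.sympForm m F u' v' = 1) :
    ∃ A ∈ Subgroup.closure (transvSet m W),
      (A : Matrix (Fin m ⊕ Fin m) (Fin m ⊕ Fin m) F) *ᵥ u = u' ∧
      (A : Matrix (Fin m ⊕ Fin m) (Fin m ⊕ Fin m) F) *ᵥ v = v' := by
  have hu0 : u ≠ 0 := by
    rintro rfl
    rw [sympForm_zero_left] at h
    exact zero_ne_one h
  have hu0' : u' ≠ 0 := by
    rintro rfl
    rw [sympForm_zero_left] at h'
    exact zero_ne_one h'
  obtain ⟨A, hA, hAu⟩ := exists_closure_transv_vec m hW hu hu' hu0 hu0'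
  have h1 : Cfsg.sympForm m F u' ((A : Matrix (Fin m ⊕ Fin m) (Fin m ⊕ Fin m) F) *ᵥ v) = 1 := by
    rw [← hAu, sp_sympForm, h]
  obtain ⟨B, hB, hBu, hBv⟩ := exists_closure_transv_fix m hu' (closure_transvSet_mem m hA hv) hv' h1 h'
  exact ⟨B * A, mul_mem hB hA, by rw [sp_coe_mul_mulVec, hAu, hBu], by rw [sp_coe_mul_mulVec, hBv]⟩

theorem transvSet_top :
    transvSet m (⊤ : Submodule F (Fin m ⊕ Fin m → F)) =
      {A : Matrix.symplecticGroup (Fin m) F | ∃ (w : Fin m ⊕ Fin m → F) (c : F),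
        (A : Matrix (Fin m ⊕ Fin m) (Fin m ⊕ Fin m) F) = Cfsg.sympTransvection m w c} := by
  ext A
  simp [transvSet]

end Field

end Cfsg.Agent.Lib.Helper17
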