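import Cfsg.Agent.Lib.Helper17.Symp
import Cfsg.Agent.S0752
import Cfsg.Agent.S0749

set_option autoImplicit false

namespace Cfsg.Agent.Lib.Helper17

open Matrix

section
variable {F : Type*} [Field F]

theorem sympB_isAlt (m : ℕ) : (sympB m F).IsAlt := fun x => by rw [sympB_apply, sympForm_self]

theorem sympB_nondegenerate (m : ℕ) : (sympB m F).Nondegenerate := by
  constructor
  · intro x hx
    apply sympForm_left_eq_zero m
    intro y
    rw [← sympB_apply]
    exact hx y
  · intro y hy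
    apply sympForm_left_eq_zero m
    intro x
    rw [sympForm_swap, ← sympB_apply, hy x, neg_zero]

/-- A linear map preserving `sympForm`, as an element of the symplectic group. -/
noncomputable def spOfLinear (m : ℕ) (g : (Fin m ⊕ Fin m → F) →ₗ[F] (Fin m ⊕ Fin m → F))
    (hg : ∀ u v, Cfsg.sympForm m F (g u) (g v) = Cfsg.sympForm m F u v) : Matrix.symplecticGroup (Fin m) F :=
  ⟨LinearMap.toMatrix' g, by
    rw [mem_symplecticGroup_iff_sympForm]
    intro u v
    rw [LinearMap.toMatrix'_mulVec, LinearMap.toMatrix'_mulVec, hg]⟩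

theorem spOfLinear_mulVec (m : ℕ) (g : (Fin m ⊕ Fin m → F) →ₗ[F] (Fin m ⊕ Fin m → F))
    (hg : ∀ u v, Cfsg.sympForm m F (g u) (g v) = Cfsg.sympForm m F u v) (x : Fin m ⊕ Fin m → F) :
    (spOfLinear m g hg : Matrix (Fin m ⊕ Fin m) (Fin m ⊕ Fin m) F) *ᵥ x = g x :=
  LinearMap.toMatrix'_mulVec g x

/-- Witt's lemma for the matrix symplectic group. -/
theorem sp_witt (m : ℕ) (X Y : Submodule F (Fin m ⊕ Fin m → F)) (φ : X ≃ₗ[F] Y)
    (hφ : ∀ x x' : X, Cfsg.sympForm m F (φ x : Fin m ⊕ Fin m → F) (φ x' : Fin m ⊕ Fin m → F) =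
      Cfsg.sympForm m F (x : Fin m ⊕ Fin m → F) (x' : Fin m ⊕ Fin m → F)) :
    ∃ A : Matrix.symplecticGroup (Fin m) F, ∀ x : X,
      (A : Matrix (Fin m ⊕ Fin m) (Fin m ⊕ Fin m) F) *ᵥ (x : Fin m ⊕ Fin m → F) = (φ x : Fin m ⊕ Fin m → F) := by
  obtain ⟨g, hg1, hg2⟩ := Cfsg.Agent.S0749.result (sympB m F) (sympB_nondegenerate m) (sympB_isAlt m) X Y φ
    (by intro x x'; rw [sympB_apply, sympB_apply, hφ])
  refine ⟨spOfLinear m (g : (Fin m ⊕ Fin m → F) →ₗ[F] (Fin m ⊕ Fin m → F)) (by
    intro u v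
    have := hg1 u v
    rw [sympB_apply, sympB_apply] at this
    exact this), ?_⟩
  intro x
  rw [spOfLinear_mulVec]
  exact hg2 x

/-- Standard coordinates on a non-degenerate alternating space of dimension `2k`. -/
theorem exists_symp_coords {V : Type*} [AddCommGroup V] [Module F V] [FiniteDimensional F V]
    (B : LinearMap.BilinForm F V) (hA : B.IsAlt) (hB : ∀ x, (∀ y, B x y = 0) → x = 0) {k : ℕ}
    (hk : Module.finrank F V = 2 * k) :
    ∃ Φ : (Fin k ⊕ Fin k → F) ≃ₗ[F] V, ∀ x y, B (Φ x) (Φ y) = Cfsg.sympForm k F x y := by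
  classical
  obtain ⟨m', k', b, h1, h2, h3, h4⟩ := Cfsg.Agent.S0752.result B hA
  have hk' : k' = 0 := by
    by_contra hne
    have hpos : 0 < k' := Nat.pos_of_ne_zero hne
    exact b.ne_zero (Sum.inr ⟨0, hpos⟩) (hB _ (h4 ⟨0, hpos⟩))
  subst hk'
  have hm' : m' = k := by
    have := Module.finrank_eq_card_basis b
    simp only [Fintype.card_sum, Fintype.card_fin] at this
    omega
  subst hm'
  let e : (Fin m' ⊕ Fin m') ⊕ Fin 0 ≃ Fin m' ⊕ Fin m' := (Equiv.sumEmpty _ _).trans (Equiv.sumComm _ _)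
  let b' : Module.Basis (Fin m' ⊕ Fin m') F V := b.reindex e
  have hbl : ∀ i, b' (Sum.inl i) = b (Sum.inl (Sum.inr i)) := fun i => by
    simp only [b', Module.Basis.reindex_apply]
    rfl
  have hbr : ∀ i, b' (Sum.inr i) = b (Sum.inl (Sum.inl i)) := fun i => by
    simp only [b', Module.Basis.reindex_apply]
    rfl
  let Φ : (Fin m' ⊕ Fin m' → F) ≃ₗ[F] V := b'.equivFun.symm
  have hΦ : ∀ a, Φ (Pi.single a 1) = b' a := by
    intro a
    simp only [Φ, Module.Basis.equivFun_symm_apply, Pi.single_apply, ite_smul, one_smul, zero_smul,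
      Finset.sum_ite_eq', Finset.mem_univ, if_true]
  have hforms : B.comp (Φ : (Fin m' ⊕ Fin m' → F) →ₗ[F] V) (Φ : (Fin m' ⊕ Fin m' → F) →ₗ[F] V) = sympB m' F := by
    apply LinearMap.BilinForm.ext_basis (Pi.basisFun F (Fin m' ⊕ Fin m'))
    intro a c
    simp only [Pi.basisFun_apply, LinearMap.BilinForm.comp_apply, LinearEquiv.coe_coe, hΦ, sympB_apply]
    rcases a with i | i <;> rcases c with j | j
    · rw [hbl, hbl, h3, sympForm_single_inl_right]
      simp
    · rw [hbl, hbr, ← LinearMap.IsAlt.neg hA, h1, sympForm_single_inr_right]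
      by_cases hij : i = j
      · simp [hij]
      · have : j ≠ i := fun h => hij h.symm
        simp [hij, this]
    · rw [hbr, hbl, h1, sympForm_single_inl_right]
      by_cases hij : i = j
      · simp [hij]
      · have : j ≠ i := fun h => hij h.symm
        simp [hij, this]
    · rw [hbr, hbr, h2, sympForm_single_inr_right]
      simp
  refine ⟨Φ, fun x y => ?_⟩
  have := LinearMap.congr_fun (LinearMap.congr_fun hforms x) y
  rw [sympB_apply] at this
  exact this

end

end Cfsg.Agent.Lib.Helper17
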