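import Cfsg.Prelude.Def_ClassicalGeometry

set_option autoImplicit false

namespace Cfsg.Agent.Lib.Helper17

open Matrix

section
variable {H : Type*} [Group H] {ι : Type} [Fintype ι] [DecidableEq ι] {F : Type*} [Field F]

theorem toMat_inv_mulVec (toMat : H →* Matrix ι ι F) (h : H) (v : ι → F) :
    toMat h⁻¹ *ᵥ (toMat h *ᵥ v) = v := by
  rw [Matrix.mulVec_mulVec, ← map_mul, inv_mul_cancel, map_one, Matrix.one_mulVec]

theorem toMat_mulVec_inv (toMat : H →* Matrix ι ι F) (h : H) (v : ι → F) :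
    toMat h *ᵥ (toMat h⁻¹ *ᵥ v) = v := by
  rw [Matrix.mulVec_mulVec, ← map_mul, mul_inv_cancel, map_one, Matrix.one_mulVec]

theorem mem_stabilizing_of_forall (toMat : H →* Matrix ι ι F) (S : Submodule F (ι → F)) (h : H)
    (hS : ∀ v ∈ S, toMat h *ᵥ v ∈ S) : h ∈ Cfsg.stabilizing toMat (S : Set (ι → F)) := by
  intro v
  refine ⟨fun hv => hS v hv, fun hv => ?_⟩
  let L : (ι → F) →ₗ[F] (ι → F) := Matrix.toLin' (toMat h)
  have hL : ∀ v, L v = toMat h *ᵥ v := fun v => rfl
  have hinj : Function.Injective L := by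
    intro a b hab
    rw [hL, hL] at hab
    have := congrArg (fun x => toMat h⁻¹ *ᵥ x) hab
    simpa only [toMat_inv_mulVec] using this
  have hle : S.map L ≤ S := by
    rintro _ ⟨s, hs, rfl⟩
    exact hS s hs
  have hfin : Module.finrank F (S.map L) = Module.finrank F S :=
    (Submodule.equivMapOfInjective L hinj S).finrank_eq.symm
  have heq : S.map L = S := Submodule.eq_of_le_of_finrank_eq hle hfin
  have hv' : L v ∈ S.map L := by rw [heq]; exact hv
  obtain ⟨s, hs, hsv⟩ := hv'
  rw [← hinj hsv]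
  exact hs

theorem mem_stabilizing_iff_forall (toMat : H →* Matrix ι ι F) (S : Submodule F (ι → F)) (h : H) :
    h ∈ Cfsg.stabilizing toMat (S : Set (ι → F)) ↔ ∀ v ∈ S, toMat h *ᵥ v ∈ S :=
  ⟨fun hh v hv => (hh v).mp hv, mem_stabilizing_of_forall toMat S h⟩

end

section
variable (F : Type*) [Field F]

/-- The coordinate subspace spanned by the first `k` basis vectors. -/
def coordSub (n k : ℕ) : Submodule F (Fin n → F) where
  carrier := {v | ∀ i : Fin n, k ≤ (i : ℕ) → v i = 0}
  add_mem' := by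
    intro a b ha hb i hi
    simp [ha i hi, hb i hi]
  zero_mem' := by
    intro i _
    rfl
  smul_mem' := by
    intro c a ha i hi
    simp [ha i hi]

theorem coe_coordSub (n k : ℕ) :
    (coordSub F n k : Set (Fin n → F)) = {v : Fin n → F | ∀ i : Fin n, k ≤ (i : ℕ) → v i = 0} := rfl

theorem mem_coordSub {n k : ℕ} {v : Fin n → F} : v ∈ coordSub F n k ↔ ∀ i : Fin n, k ≤ (i : ℕ) → v i = 0 :=
  Iff.rfl

theorem mem_stab_coord_iff {n k : ℕ} (g : Matrix.GeneralLinearGroup (Fin n) F) :
    g ∈ Cfsg.stabilizing (Cfsg.glToMat (Fin n) F) {v : Fin n → F | ∀ i : Fin n, k ≤ (i : ℕ) → v i = 0} ↔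
      ∀ i j : Fin n, k ≤ (i : ℕ) → (j : ℕ) < k → (g : Matrix (Fin n) (Fin n) F) i j = 0 := by
  rw [← coe_coordSub, mem_stabilizing_iff_forall]
  constructor
  · intro h i j hi hj
    have h1 := h (Pi.single j 1) (by
      intro i' hi'
      have : i' ≠ j := by
        intro h'; rw [h'] at hi'; omega
      simp [this]) i hi
    simpa using h1
  · intro h v hv i hi
    change ((g : Matrix (Fin n) (Fin n) F) *ᵥ v) i = 0
    rw [Matrix.mulVec, dotProduct]
    apply Finset.sum_eq_zero
    intro j _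
    by_cases hj : (j : ℕ) < k
    · rw [h i j hi hj, zero_mul]
    · rw [hv j (by omega), mul_zero]

end

end Cfsg.Agent.Lib.Helper17
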