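import Cfsg.Agent.Lib.Helper17.SympRoot

set_option autoImplicit false

namespace Cfsg.Agent.Lib.Helper17.SympCenter

open Matrix
open Cfsg.Agent.Lib.Helper17 Cfsg.Agent.Lib.Helper17.SympRoot

theorem central_scalar {F : Type*} [Field F] {m : ℕ}
    {g : Matrix.symplecticGroup (Fin m) F} (hg : g ∈ Subgroup.center (Matrix.symplecticGroup (Fin m) F)) :
    ∃ a : F, ∀ v : Fin m ⊕ Fin m → F,
      (g : Matrix (Fin m ⊕ Fin m) (Fin m ⊕ Fin m) F) *ᵥ v = a • v := by
  have key : ∀ p : Fin m ⊕ Fin m → F, ∃ μ : F,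
      (g : Matrix (Fin m ⊕ Fin m) (Fin m ⊕ Fin m) F) *ᵥ p = μ • p := by
    intro p
    by_cases hp : p = 0
    · exact ⟨0, by rw [hp, Matrix.mulVec_zero, smul_zero]⟩
    obtain ⟨z, hz⟩ := exists_form_ne hp
    have h1 : tv ((g : Matrix (Fin m ⊕ Fin m) (Fin m ⊕ Fin m) F) *ᵥ p) 1 = tv p 1 := by
      rw [← conj_tv, ← (Subgroup.mem_center_iff.1 hg (tv p 1)), mul_inv_cancel_right]
    have h2 := congrArg (fun t : Matrix.symplecticGroup (Fin m) F =>
      (t : Matrix (Fin m ⊕ Fin m) (Fin m ⊕ Fin m) F) *ᵥ z) h1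
    simp only [tv_mulVec, one_mul] at h2
    have h3 := add_left_cancel h2
    have hz' : Cfsg.sympForm m F z p ≠ 0 := by
      rw [sympForm_swap]; exact neg_ne_zero.mpr hz
    have h4 : Cfsg.sympForm m F z ((g : Matrix (Fin m ⊕ Fin m) (Fin m ⊕ Fin m) F) *ᵥ p) ≠ 0 := by
      intro h0
      rw [h0, zero_smul] at h3
      exact smul_ne_zero hz' hp h3.symm
    refine ⟨(Cfsg.sympForm m F z ((g : Matrix (Fin m ⊕ Fin m) (Fin m ⊕ Fin m) F) *ᵥ p))⁻¹ *
      Cfsg.sympForm m F z p, ?_⟩
    rw [mul_smul, ← h3, smul_smul, inv_mul_cancel₀ h4, one_smul]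
  obtain ⟨a, ha⟩ := LinearMap.exists_eq_smul_id_of_forall_notLinearIndependent
    (f := Matrix.mulVecLin (g : Matrix (Fin m ⊕ Fin m) (Fin m ⊕ Fin m) F)) (by
      intro v hv
      obtain ⟨μ, hμ⟩ := key v
      rw [LinearIndependent.pair_iff] at hv
      have := hv μ (-1) (by rw [Matrix.mulVecLin_apply, hμ]; module)
      exact one_ne_zero (neg_eq_zero.1 this.2))
  refine ⟨a, fun v => ?_⟩
  have := congrArg (fun f : (Fin m ⊕ Fin m → F) →ₗ[F] (Fin m ⊕ Fin m → F) => f v) ha
  simpa using this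

theorem card_center {F : Type*} [Field F] [Fintype F] {q : ℕ} (hF : Fintype.card F = q) (m : ℕ) (hm : 1 ≤ m) :
    Nat.card (Subgroup.center (Matrix.symplecticGroup (Fin m) F)) = Nat.gcd 2 (q - 1) := by
  classical
  obtain ⟨k, rfl⟩ : ∃ k, m = k + 1 := ⟨m - 1, by omega⟩
  let negOne : Matrix.symplecticGroup (Fin (k + 1)) F :=
    ⟨-1, SymplecticGroup.neg_mem (one_mem _)⟩
  have hneg : ∀ v : Fin (k + 1) ⊕ Fin (k + 1) → F,
      (negOne : Matrix (Fin (k + 1) ⊕ Fin (k + 1)) (Fin (k + 1) ⊕ Fin (k + 1)) F) *ᵥ v = -v := by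
    intro v
    change (-1 : Matrix (Fin (k + 1) ⊕ Fin (k + 1)) (Fin (k + 1) ⊕ Fin (k + 1)) F) *ᵥ v = -v
    rw [Matrix.neg_mulVec, Matrix.one_mulVec]
  have hset : ((Subgroup.center (Matrix.symplecticGroup (Fin (k + 1)) F) :
      Subgroup (Matrix.symplecticGroup (Fin (k + 1)) F)) : Set (Matrix.symplecticGroup (Fin (k + 1)) F)) =
      {1, negOne} := by
    ext g
    constructor
    · intro hg
      obtain ⟨a, ha⟩ := central_scalar hg
      have hp : (Pi.single (Sum.inl 0) 1 : Fin (k + 1) ⊕ Fin (k + 1) → F) ≠ 0 := by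
        intro h
        have := congrFun h (Sum.inl 0)
        simp at this
      obtain ⟨z, hz⟩ := Cfsg.Agent.Lib.Helper17.SympRoot.exists_form_ne hp
      have h1 := Cfsg.Agent.Lib.Helper17.sp_sympForm (k + 1) g (Pi.single (Sum.inl 0) 1) z
      rw [ha, ha, Cfsg.Agent.Lib.Helper17.sympForm_smul_left,
        Cfsg.Agent.Lib.Helper17.sympForm_smul_right] at h1
      have h2 : (a - 1) * (a + 1) = 0 := by
        have : ((a - 1) * (a + 1)) * Cfsg.sympForm (k + 1) F (Pi.single (Sum.inl 0) 1) z = 0 := by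
          linear_combination h1
        exact (mul_eq_zero.1 this).resolve_right hz
      rcases mul_eq_zero.1 h2 with h3 | h3
      · left
        apply Cfsg.Agent.Lib.Helper17.SympRoot.sp_ext
        intro v
        rw [ha, sub_eq_zero.1 h3, one_smul, Submonoid.coe_one, Matrix.one_mulVec]
      · right
        apply Cfsg.Agent.Lib.Helper17.SympRoot.sp_ext
        intro v
        rw [ha, hneg, eq_neg_of_add_eq_zero_left h3, neg_smul, one_smul]
    · rintro (rfl | rfl)
      · exact one_mem _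
      · rw [SetLike.mem_coe, Subgroup.mem_center_iff]
        intro h
        apply Cfsg.Agent.Lib.Helper17.SympRoot.sp_ext
        intro v
        rw [Cfsg.Agent.Lib.Helper17.sp_coe_mul_mulVec, Cfsg.Agent.Lib.Helper17.sp_coe_mul_mulVec,
          hneg, hneg, Matrix.mulVec_neg]
  have hcard : Nat.card (Subgroup.center (Matrix.symplecticGroup (Fin (k + 1)) F)) =
      Set.ncard ({1, negOne} : Set (Matrix.symplecticGroup (Fin (k + 1)) F)) := by
    rw [← hset]
    rfl
  rw [hcard]
  by_cases h2 : ringChar F = 2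
  · have : CharP F 2 := by rw [← h2]; exact ringChar.charP F
    have e : negOne = 1 := by
      apply Cfsg.Agent.Lib.Helper17.SympRoot.sp_ext
      intro v
      rw [hneg, Submonoid.coe_one, Matrix.one_mulVec, CharTwo.neg_eq]
    rw [e, Set.pair_eq_singleton, Set.ncard_singleton]
    have h3 := FiniteField.even_card_iff_char_two.1 h2
    rw [hF] at h3
    have hq : 1 < q := by rw [← hF]; exact Fintype.one_lt_card
    have h4 : (q - 1) % 2 = 1 := by omega
    rw [Nat.gcd_rec, h4]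
    simp
  · have hne : (1 : Matrix.symplecticGroup (Fin (k + 1)) F) ≠ negOne := by
      intro e
      have h3 := hneg (Pi.single (Sum.inl 0) 1)
      rw [← e, Submonoid.coe_one, Matrix.one_mulVec] at h3
      have h4 := congrFun h3 (Sum.inl 0)
      simp at h4
      have h5 : (2 : F) = 0 := by linear_combination h4
      exact (Ring.two_ne_zero h2) h5
    rw [Set.ncard_pair hne]
    have h3 := FiniteField.odd_card_of_char_ne_two h2
    rw [hF] at h3
    have h4 : (q - 1) % 2 = 0 := by omega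
    have : 2 ∣ q - 1 := Nat.dvd_of_mod_eq_zero h4
    rw [Nat.gcd_eq_left this]

end Cfsg.Agent.Lib.Helper17.SympCenter
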