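import Cfsg.Agent.Lib.Helper17.SympCoord
import Cfsg.Agent.Lib.Helper17.Stab

set_option autoImplicit false

namespace Cfsg.Agent.Lib.Helper17

open Matrix

/-- Orbit-stabiliser counting in a hands-on form: `H` acts through `act`, `Y` is the orbit of `x₀`
and `K` its stabiliser in `H`. -/
theorem orbit_count {G Ω : Type*} [Group G] (act : G → Ω → Ω)
    (hmul : ∀ g h x, act (g * h) x = act g (act h x)) (hone : ∀ x, act 1 x = x) (H K : Subgroup G) (x₀ : Ω)
    (Y : Set Ω) (hK : ∀ g, g ∈ K ↔ g ∈ H ∧ act g x₀ = x₀) (hY : ∀ y, y ∈ Y ↔ ∃ g ∈ H, act g x₀ = y) :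
    Nat.card H = Nat.card Y * Nat.card K := by
  classical
  have hs : ∀ y : Y, ∃ g ∈ H, act g x₀ = y := fun y => (hY y).mp y.2
  choose s hsH hs using hs
  have hinv : ∀ g x, act g⁻¹ (act g x) = x := fun g x => by rw [← hmul, inv_mul_cancel, hone]
  rw [← Nat.card_prod]
  apply Nat.card_congr
  refine
    { toFun := fun g => (⟨act g x₀, (hY _).mpr ⟨g, g.2, rfl⟩⟩,
        ⟨(s ⟨act g x₀, (hY _).mpr ⟨g, g.2, rfl⟩⟩)⁻¹ * g, ?_⟩)
      invFun := fun p => ⟨s p.1 * p.2, H.mul_mem (hsH _) ((hK _).mp p.2.2).1⟩
      left_inv := ?_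
      right_inv := ?_ }
  · rw [hK]
    refine ⟨H.mul_mem (H.inv_mem (hsH _)) g.2, ?_⟩
    rw [hmul]
    exact (congrArg (act _) (hs ⟨act g x₀, (hY _).mpr ⟨g, g.2, rfl⟩⟩)).symm.trans (hinv _ _)
  · intro g
    apply Subtype.ext
    simp
  · rintro ⟨y, k⟩
    have h1 : act (s y * k) x₀ = y := by
      rw [hmul, ((hK _).mp k.2).2, hs]
    have h2 : (⟨act (s y * k) x₀, (hY _).mpr ⟨s y * k, H.mul_mem (hsH _) ((hK _).mp k.2).1, rfl⟩⟩ : Y) = y :=
      Subtype.ext h1
    apply Prod.ext
    · exact h2
    · apply Subtype.ext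
      simp only
      rw [h2]
      simp

section
variable {F : Type*} [Field F]

/-- Witt's lemma for frames. -/
theorem sp_witt_frame (m : ℕ) {ι : Type*} (x y : ι → (Fin m ⊕ Fin m → F)) (hx : LinearIndependent F x)
    (hy : LinearIndependent F y)
    (hxy : ∀ i j, Cfsg.sympForm m F (y i) (y j) = Cfsg.sympForm m F (x i) (x j)) :
    ∃ A : Matrix.symplecticGroup (Fin m) F, ∀ i,
      (A : Matrix (Fin m ⊕ Fin m) (Fin m ⊕ Fin m) F) *ᵥ x i = y i := by
  let bx := Module.Basis.span hx
  let by' := Module.Basis.span hy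
  let φ := bx.equiv by' (Equiv.refl ι)
  have hbx : ∀ i, ((bx i : _) : Fin m ⊕ Fin m → F) = x i := fun i => congrArg Subtype.val (Module.Basis.span_apply hx i)
  have hφ : ∀ i, ((φ (bx i) : _) : Fin m ⊕ Fin m → F) = y i := by
    intro i
    simp only [φ, Module.Basis.equiv_apply, Equiv.refl_apply]
    exact congrArg Subtype.val (Module.Basis.span_apply hy i)
  obtain ⟨A, hA⟩ := sp_witt m _ _ φ (by
    intro a a'
    have h1 : ((sympB m F).restrict _).comp φ.toLinearMap φ.toLinearMap = (sympB m F).restrict _ := by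
      apply LinearMap.BilinForm.ext_basis bx
      intro i j
      simp only [LinearMap.BilinForm.comp_apply, LinearEquiv.coe_coe, LinearMap.BilinForm.restrict_apply,
        LinearMap.domRestrict_apply, hφ, hbx, sympB_apply, hxy]
    have h2 := LinearMap.congr_fun (LinearMap.congr_fun h1 a) a'
    simpa only [LinearMap.BilinForm.comp_apply, LinearEquiv.coe_coe, LinearMap.BilinForm.restrict_apply,
        LinearMap.domRestrict_apply, sympB_apply] using h2)
  refine ⟨A, fun i => ?_⟩
  have := hA (bx i)
  rwa [hbx, hφ] at this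

/-- the pointwise stabiliser of a family of vectors -/
def fixFrame (m : ℕ) {ι : Type*} (x : ι → (Fin m ⊕ Fin m → F)) : Subgroup (Matrix.symplecticGroup (Fin m) F) where
  carrier := {g | ∀ i, (g : Matrix (Fin m ⊕ Fin m) (Fin m ⊕ Fin m) F) *ᵥ x i = x i}
  mul_mem' := by
    intro a b ha hb i
    rw [sp_coe_mul_mulVec, hb i, ha i]
  one_mem' := fun i => by simp
  inv_mem' := by
    intro a ha i
    conv_lhs => rw [← ha i]
    rw [sp_inv_mulVec]

theorem mem_fixFrame {m : ℕ} {ι : Type*} {x : ι → (Fin m ⊕ Fin m → F)} {g : Matrix.symplecticGroup (Fin m) F} :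
    g ∈ fixFrame m x ↔ ∀ i, (g : Matrix (Fin m ⊕ Fin m) (Fin m ⊕ Fin m) F) *ᵥ x i = x i := Iff.rfl

theorem fixFrame_span {m : ℕ} {ι : Type*} {x : ι → (Fin m ⊕ Fin m → F)} {g : Matrix.symplecticGroup (Fin m) F}
    (hg : g ∈ fixFrame m x) (w : Fin m ⊕ Fin m → F) (hw : w ∈ Submodule.span F (Set.range x)) :
    (g : Matrix (Fin m ⊕ Fin m) (Fin m ⊕ Fin m) F) *ᵥ w = w := by
  induction hw using Submodule.span_induction with
  | mem w hw =>
    obtain ⟨i, rfl⟩ := hw
    exact hg i
  | zero => simp
  | add a b _ _ ha hb => rw [Matrix.mulVec_add, ha, hb]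
  | smul c a _ ha => rw [Matrix.mulVec_smul, ha]

theorem isotropic_span {m : ℕ} {ι : Type*} {x : ι → (Fin m ⊕ Fin m → F)}
    (hx : ∀ i j, Cfsg.sympForm m F (x i) (x j) = 0) :
    ∀ u ∈ Submodule.span F (Set.range x), ∀ v ∈ Submodule.span F (Set.range x), Cfsg.sympForm m F u v = 0 := by
  intro u hu v hv
  induction hu using Submodule.span_induction with
  | mem u hu =>
    obtain ⟨i, rfl⟩ := hu
    induction hv using Submodule.span_induction with
    | mem v hv =>
      obtain ⟨j, rfl⟩ := hv
      exact hx i j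
    | zero => simp [sympForm_zero_right]
    | add a b _ _ ha hb => rw [sympForm_add_right, ha, hb, add_zero]
    | smul c a _ ha => rw [sympForm_smul_right, ha, mul_zero]
  | zero => simp [sympForm_zero_left]
  | add a b _ _ ha hb => rw [sympForm_add_left, ha, hb, add_zero]
  | smul c a _ ha => rw [sympForm_smul_left, ha, mul_zero]

theorem card_perp_diff [Fintype F] (m : ℕ) (W : Submodule F (Fin m ⊕ Fin m → F))
    (hW : ∀ u ∈ W, ∀ v ∈ W, Cfsg.sympForm m F u v = 0) :
    Nat.card {u : Fin m ⊕ Fin m → F | (∀ w ∈ W, Cfsg.sympForm m F w u = 0) ∧ u ∉ W} =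
      Fintype.card F ^ (2 * m - Module.finrank F W) - Fintype.card F ^ Module.finrank F W := by
  classical
  set P := (sympB m F).orthogonal W with hP
  have hset : {u : Fin m ⊕ Fin m → F | (∀ w ∈ W, Cfsg.sympForm m F w u = 0) ∧ u ∉ W} =
      (P : Set (Fin m ⊕ Fin m → F)) \ (W : Set (Fin m ⊕ Fin m → F)) := by
    ext u
    simp only [Set.mem_ofPred_eq, Set.mem_sdiff, SetLike.mem_coe, hP, LinearMap.BilinForm.mem_orthogonal_iff,
      sympB_apply]
  have hle : (W : Set (Fin m ⊕ Fin m → F)) ⊆ (P : Set (Fin m ⊕ Fin m → F)) := by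
    intro u hu
    rw [SetLike.mem_coe, hP, LinearMap.BilinForm.mem_orthogonal_iff]
    intro w hw
    rw [sympB_apply]
    exact hW w hw u hu
  have hfP : Module.finrank F P = 2 * m - Module.finrank F W := by
    rw [hP, LinearMap.BilinForm.finrank_orthogonal (sympB_nondegenerate m), Module.finrank_fintype_fun_eq_card,
      Fintype.card_sum, Fintype.card_fin]
    omega
  rw [hset, Nat.card_coe_set_eq, Set.ncard_sdiff hle, ← Nat.card_coe_set_eq, ← Nat.card_coe_set_eq]
  have h1 : Nat.card (P : Set (Fin m ⊕ Fin m → F)) = Fintype.card F ^ (2 * m - Module.finrank F W) := by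
    rw [← hfP, ← Nat.card_eq_fintype_card]
    exact Module.natCard_eq_pow_finrank (K := F) (V := P)
  have h2 : Nat.card (W : Set (Fin m ⊕ Fin m → F)) = Fintype.card F ^ Module.finrank F W := by
    rw [← Nat.card_eq_fintype_card]
    exact Module.natCard_eq_pow_finrank (K := F) (V := W)
  rw [h1, h2]

theorem card_fixFrame_mul [Fintype F] (m : ℕ) : ∀ (k : ℕ) (x : Fin k → (Fin m ⊕ Fin m → F)),
    LinearIndependent F x → (∀ i j, Cfsg.sympForm m F (x i) (x j) = 0) →
    Nat.card (fixFrame m x) * ∏ i ∈ Finset.range k, (Fintype.card F ^ (2 * m - i) - Fintype.card F ^ i) =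
      Nat.card (Matrix.symplecticGroup (Fin m) F) := by
  intro k
  induction k with
  | zero =>
    intro x _ _
    have : fixFrame m x = ⊤ := by
      ext g
      simp only [Subgroup.mem_top, iff_true]
      intro i
      exact i.elim0
    rw [this, Subgroup.card_top]
    simp
  | succ k ih =>
    intro x hx hiso
    obtain ⟨hx', hlast⟩ := linearIndependent_finSucc'.mp hx
    have hiso' : ∀ i j, Cfsg.sympForm m F (Fin.init x i) (Fin.init x j) = 0 := fun i j => hiso _ _
    set W := Submodule.span F (Set.range (Fin.init x)) with hW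
    have hWiso := isotropic_span hiso'
    have hWfin : Module.finrank F W = k := by
      rw [hW, finrank_span_eq_card hx', Fintype.card_fin]
    have hWlast : ∀ w ∈ W, Cfsg.sympForm m F w (x (Fin.last k)) = 0 := by
      intro w hw
      apply isotropic_span hiso
      · exact Submodule.span_mono (by rintro _ ⟨i, rfl⟩; exact ⟨_, rfl⟩) hw
      · exact Submodule.subset_span ⟨_, rfl⟩
    have step : Nat.card (fixFrame m (Fin.init x)) =
        Nat.card {u : Fin m ⊕ Fin m → F | (∀ w ∈ W, Cfsg.sympForm m F w u = 0) ∧ u ∉ W} *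
          Nat.card (fixFrame m x) := by
      apply orbit_count (fun (g : Matrix.symplecticGroup (Fin m) F) (v : Fin m ⊕ Fin m → F) =>
        (g : Matrix (Fin m ⊕ Fin m) (Fin m ⊕ Fin m) F) *ᵥ v) (fun g h v => sp_coe_mul_mulVec m g h v)
        (fun v => by simp) _ _ (x (Fin.last k))
      · intro g
        constructor
        · intro hg
          exact ⟨fun i => hg _, hg _⟩
        · rintro ⟨h1, h2⟩ i
          induction i using Fin.lastCases with
          | last => exact h2
          | cast i => exact h1 i
      · intro y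
        constructor
        · rintro ⟨hy1, hy2⟩
          obtain ⟨A, hA⟩ := sp_witt_frame m x (Fin.snoc (Fin.init x) y) hx (hx'.finSnoc hy2) (by
            intro i j
            rw [hiso]
            induction i using Fin.lastCases with
            | last =>
              induction j using Fin.lastCases with
              | last => simp [sympForm_self]
              | cast j =>
                simp only [Fin.snoc_last, Fin.snoc_castSucc]
                rw [sympForm_swap, hy1 _ (Submodule.subset_span ⟨j, rfl⟩), neg_zero]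
            | cast i =>
              induction j using Fin.lastCases with
              | last =>
                simp only [Fin.snoc_last, Fin.snoc_castSucc]
                exact hy1 _ (Submodule.subset_span ⟨i, rfl⟩)
              | cast j =>
                simp only [Fin.snoc_castSucc]
                exact hiso' i j)
          refine ⟨A, fun i => ?_, ?_⟩
          · have := hA i.castSucc
            simp only [Fin.snoc_castSucc] at this
            exact this
          · have := hA (Fin.last k)
            simpa only [Fin.snoc_last] using this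
        · rintro ⟨g, hg, rfl⟩
          refine ⟨fun w hw => ?_, fun hmem => ?_⟩
          · rw [← fixFrame_span hg w hw, sp_sympForm]
            exact hWlast w hw
          · apply hlast
            have h1 := fixFrame_span hg _ hmem
            have h2 := congrArg (fun v => ((g⁻¹ : Matrix.symplecticGroup (Fin m) F) :
              Matrix (Fin m ⊕ Fin m) (Fin m ⊕ Fin m) F) *ᵥ v) h1
            simp only [sp_inv_mulVec] at h2
            rw [← h2]
            exact hmem
    rw [Finset.prod_range_succ, ← ih (Fin.init x) hx' hiso', step, card_perp_diff m W hWiso, hWfin]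
    ring

end

end Cfsg.Agent.Lib.Helper17
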