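import Cfsg.Agent.Lib.Helper17.SympCoord
import Cfsg.Agent.Lib.Helper85.SL2RankOne
import Cfsg.Agent.Lib.Helper85.RootMap
import Cfsg.Agent.Lib.Helper85.RootBasic
import Cfsg.Agent.S0765

set_option autoImplicit false

namespace Cfsg.Agent.Lib.Helper17.SympRoot

open Matrix Cfsg
open Cfsg.Agent.Lib.Helper85

section general

variable {G : Type*} [Group G] {S : Set (Subgroup G)}

/-- In a set of abstract root subgroups a rank one pair is never in the commutator case. -/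
theorem not_commutatorCase_of_rankOne (hS : IsRootSubgroupSet S) {A B : Subgroup G} (hA : A ∈ S)
    (hB : B ∈ S) (h : IsRankOnePair A B) : ¬ RootCommutatorCase S A B := by
  intro hc
  obtain ⟨a, ha, ha1⟩ := RankOne.exists_ne_one_left h
  obtain ⟨b, hb, hb1⟩ := RankOne.exists_ne_one_right h
  have hab := Root.RankOne_not_commute h ha ha1 hb hb1
  have hz : b * a * b⁻¹ * a⁻¹ ∈ ⁅A, B⁆ := by
    rw [Subgroup.commutator_comm]
    exact Subgroup.commutator_mem_commutator hb ha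
  have hzc : b * a * b⁻¹ * a⁻¹ ∈ Subgroup.centralizer ((A ⊔ B : Subgroup G) : Set G) := by
    rw [Subgroup.mem_centralizer_iff]
    intro x hx
    exact (hc.2.1 _ hz x hx).symm
  have hz1 : b * a * b⁻¹ * a⁻¹ ≠ 1 := by
    intro h1
    apply hab
    have : b * a = a * b := by
      calc b * a = (b * a * b⁻¹ * a⁻¹) * (a * b) := by group
        _ = a * b := by rw [h1, one_mul]
    exact this.symm
  apply Root.central_translate hS hA hB h hzc hz1 ha ha1
  have e1 : b * a * b⁻¹ * a⁻¹ * a = b * a * b⁻¹ := by group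
  rw [e1]
  refine ⟨?_, conjBy A b, hS.conj_mem A hA b, conj_mem_conjBy ha b⟩
  intro h1
  apply ha1
  calc a = b⁻¹ * (b * a * b⁻¹) * b := by group
    _ = 1 := by rw [h1]; group

end general

section symp

variable {F : Type*} [Field F] {n : ℕ}

theorem sp_ext {g h : Matrix.symplecticGroup (Fin n) F}
    (H : ∀ v : Fin n ⊕ Fin n → F, (g : Matrix (Fin n ⊕ Fin n) (Fin n ⊕ Fin n) F) *ᵥ v =
      (h : Matrix (Fin n ⊕ Fin n) (Fin n ⊕ Fin n) F) *ᵥ v) : g = h := by
  apply Subtype.ext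
  rw [Matrix.ext_iff_mulVec]
  exact H

/-- The symplectic transvection `v ↦ v + c f(v,p) p` as an element of the symplectic group. -/
def tv (p : Fin n ⊕ Fin n → F) (c : F) : Matrix.symplecticGroup (Fin n) F :=
  ⟨Cfsg.sympTransvection n p c, sympTransvection_mem n p c⟩

theorem tv_mulVec (p : Fin n ⊕ Fin n → F) (c : F) (v : Fin n ⊕ Fin n → F) :
    (tv p c : Matrix (Fin n ⊕ Fin n) (Fin n ⊕ Fin n) F) *ᵥ v = v + (c * Cfsg.sympForm n F v p) • p :=
  sympTransvection_mulVec n p c v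

theorem tv_mul (p : Fin n ⊕ Fin n → F) (c d : F) : tv p c * tv p d = tv p (c + d) :=
  Subtype.ext (sympTransvection_mul n p c d)

theorem tv_zero (p : Fin n ⊕ Fin n → F) : tv p 0 = 1 := by
  apply sp_ext
  intro v
  rw [tv_mulVec]
  simp

theorem tv_inv (p : Fin n ⊕ Fin n → F) (c : F) : (tv p c)⁻¹ = tv p (-c) := by
  rw [inv_eq_iff_mul_eq_one, tv_mul, add_neg_cancel, tv_zero]

/-- The transvection subgroup with centre `p`. -/
def T (p : Fin n ⊕ Fin n → F) : Subgroup (Matrix.symplecticGroup (Fin n) F) :=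
  Subgroup.closure {g : ↥(Matrix.symplecticGroup (Fin n) F) | ∃ c : F, ∀ v : Fin n ⊕ Fin n → F,
      (g : Matrix (Fin n ⊕ Fin n) (Fin n ⊕ Fin n) F) *ᵥ v =
        v + (c * (v ⬝ᵥ (Matrix.J (Fin n) F *ᵥ p))) • p}

theorem mem_T {p : Fin n ⊕ Fin n → F} {g : Matrix.symplecticGroup (Fin n) F} :
    g ∈ T p ↔ ∃ c, g = tv p c := by
  constructor
  · intro hg
    unfold T at hg
    induction hg using Subgroup.closure_induction with
    | mem x hx =>
      obtain ⟨c, hc⟩ := hx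
      exact ⟨c, sp_ext fun v => by rw [hc, tv_mulVec]; rfl⟩
    | one => exact ⟨0, (tv_zero p).symm⟩
    | mul x y _ _ hx hy =>
      obtain ⟨s, rfl⟩ := hx
      obtain ⟨t, rfl⟩ := hy
      exact ⟨s + t, tv_mul p s t⟩
    | inv x _ hx =>
      obtain ⟨s, rfl⟩ := hx
      exact ⟨-s, tv_inv p s⟩
  · rintro ⟨c, rfl⟩
    exact Subgroup.subset_closure ⟨c, fun v => tv_mulVec p c v⟩

theorem tv_mem (p : Fin n ⊕ Fin n → F) (c : F) : tv p c ∈ T p := mem_T.2 ⟨c, rfl⟩

theorem exists_form_ne {p : Fin n ⊕ Fin n → F} (hp : p ≠ 0) : ∃ z, Cfsg.sympForm n F p z ≠ 0 := by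
  by_contra h
  push Not at h
  exact hp (sympForm_left_eq_zero n h)

theorem tv_ne_one {p : Fin n ⊕ Fin n → F} (hp : p ≠ 0) {c : F} (hc : c ≠ 0) : tv p c ≠ 1 := by
  intro h
  obtain ⟨z, hz⟩ := exists_form_ne hp
  have h1 := tv_mulVec p c z
  rw [h, Submonoid.coe_one, Matrix.one_mulVec] at h1
  have h2 : (c * Cfsg.sympForm n F z p) • p = 0 := by
    have := h1.symm
    rwa [add_eq_left] at this
  rw [smul_eq_zero] at h2
  rcases h2 with h2 | h2
  · rw [sympForm_swap] at h2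
    rcases mul_eq_zero.1 h2 with h3 | h3
    · exact hc h3
    · exact hz (neg_eq_zero.1 h3)
  · exact hp h2

theorem conj_tv (g : Matrix.symplecticGroup (Fin n) F) (p : Fin n ⊕ Fin n → F) (c : F) :
    g * tv p c * g⁻¹ = tv ((g : Matrix (Fin n ⊕ Fin n) (Fin n ⊕ Fin n) F) *ᵥ p) c := by
  apply sp_ext
  intro v
  rw [sp_coe_mul_mulVec, sp_coe_mul_mulVec, tv_mulVec, tv_mulVec, Matrix.mulVec_add,
    Matrix.mulVec_smul, sp_mulVec_inv, ← sp_sympForm n g _ p, sp_mulVec_inv]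

theorem conjBy_T (g : Matrix.symplecticGroup (Fin n) F) (p : Fin n ⊕ Fin n → F) :
    conjBy (T p) g = T ((g : Matrix (Fin n ⊕ Fin n) (Fin n ⊕ Fin n) F) *ᵥ p) := by
  ext x
  rw [mem_conjBy, mem_T, mem_T]
  constructor
  · rintro ⟨c, hc⟩
    refine ⟨c, ?_⟩
    rw [← conj_tv, ← hc]; group
  · rintro ⟨c, rfl⟩
    refine ⟨c, ?_⟩
    rw [← conj_tv]; group

theorem tv_comm {p p' : Fin n ⊕ Fin n → F} (h : Cfsg.sympForm n F p p' = 0) (c d : F) :
    tv p c * tv p' d = tv p' d * tv p c := by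
  have h' : Cfsg.sympForm n F p' p = 0 := by rw [sympForm_swap, h, neg_zero]
  apply sp_ext
  intro v
  simp only [sp_coe_mul_mulVec, tv_mulVec, sympForm_add_left, sympForm_smul_left, h, h']
  module

theorem commutator_T {p p' : Fin n ⊕ Fin n → F} (h : Cfsg.sympForm n F p p' = 0) :
    ⁅T p, T p'⁆ = ⊥ := by
  rw [Subgroup.commutator_eq_bot_iff_le_centralizer]
  intro x hx
  obtain ⟨c, rfl⟩ := mem_T.1 hx
  rw [Subgroup.mem_centralizer_iff]
  intro y hy
  obtain ⟨d, rfl⟩ := mem_T.1 hy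
  exact (tv_comm h c d).symm

theorem tv_smul (a : F) (p : Fin n ⊕ Fin n → F) (c : F) : tv (a • p) c = tv p (a ^ 2 * c) := by
  apply sp_ext
  intro v
  simp only [tv_mulVec, sympForm_smul_right]
  module

theorem T_smul {a : F} (ha : a ≠ 0) (p : Fin n ⊕ Fin n → F) : T (a • p) = T p := by
  ext x
  rw [mem_T, mem_T]
  constructor
  · rintro ⟨c, rfl⟩
    exact ⟨_, tv_smul a p c⟩
  · rintro ⟨c, rfl⟩
    refine ⟨c / a ^ 2, ?_⟩
    rw [tv_smul]
    congr 1
    field_simp

theorem isMulCommutative_T (p : Fin n ⊕ Fin n → F) : IsMulCommutative (T p) := by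
  refine ⟨⟨?_⟩⟩
  rintro ⟨a, ha⟩ ⟨b, hb⟩
  obtain ⟨s, rfl⟩ := mem_T.1 ha
  obtain ⟨t, rfl⟩ := mem_T.1 hb
  apply Subtype.ext
  change tv p s * tv p t = tv p t * tv p s
  rw [tv_mul, tv_mul, add_comm]

theorem T_ne_bot {p : Fin n ⊕ Fin n → F} (hp : p ≠ 0) : T p ≠ ⊥ := by
  intro h
  have h1 : tv p 1 ∈ T p := tv_mem p 1
  rw [h, Subgroup.mem_bot] at h1
  exact tv_ne_one hp one_ne_zero h1

/-- The action of `M ∈ SL₂(F)` on the hyperbolic plane `⟨e, d⟩`, extended by the identity. -/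
def Lm (e d : Fin n ⊕ Fin n → F) (M : SpecialLinearGroup (Fin 2) F) :
    (Fin n ⊕ Fin n → F) →ₗ[F] (Fin n ⊕ Fin n → F) where
  toFun v := v + ((M 0 0 - 1) * Cfsg.sympForm n F v d - M 0 1 * Cfsg.sympForm n F v e) • e +
    (M 1 0 * Cfsg.sympForm n F v d - (M 1 1 - 1) * Cfsg.sympForm n F v e) • d
  map_add' u v := by
    simp only [sympForm_add_left]
    module
  map_smul' c v := by
    simp only [sympForm_smul_left, RingHom.id_apply]
    module

theorem Lm_apply (e d : Fin n ⊕ Fin n → F) (M : SpecialLinearGroup (Fin 2) F)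
    (v : Fin n ⊕ Fin n → F) :
    Lm e d M v = v + ((M 0 0 - 1) * Cfsg.sympForm n F v d - M 0 1 * Cfsg.sympForm n F v e) • e +
    (M 1 0 * Cfsg.sympForm n F v d - (M 1 1 - 1) * Cfsg.sympForm n F v e) • d := rfl

theorem Lm_form {e d : Fin n ⊕ Fin n → F} (hed : Cfsg.sympForm n F e d = 1)
    (M : SpecialLinearGroup (Fin 2) F) (u v : Fin n ⊕ Fin n → F) :
    Cfsg.sympForm n F (Lm e d M u) (Lm e d M v) = Cfsg.sympForm n F u v := by
  have hde : Cfsg.sympForm n F d e = -1 := by rw [sympForm_swap, hed]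
  simp only [Lm_apply, sympForm_add_left, sympForm_add_right, sympForm_smul_left,
    sympForm_smul_right, sympForm_self, hed, hde]
  rw [sympForm_swap n e v, sympForm_swap n d v]
  linear_combination (Cfsg.sympForm n F u e * Cfsg.sympForm n F v d -
    Cfsg.sympForm n F u d * Cfsg.sympForm n F v e) * SL2.det_eq M

/-- The embedding of `SL₂(F)` attached to a hyperbolic pair. -/
noncomputable def phi (e d : Fin n ⊕ Fin n → F) (hed : Cfsg.sympForm n F e d = 1) :
    SpecialLinearGroup (Fin 2) F →* Matrix.symplecticGroup (Fin n) F :=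
  MonoidHom.mk' (fun M => spOfLinear n (Lm e d M) (Lm_form hed M)) (by
    intro M N
    have hde : Cfsg.sympForm n F d e = -1 := by rw [sympForm_swap, hed]
    apply sp_ext
    intro v
    rw [sp_coe_mul_mulVec, spOfLinear_mulVec, spOfLinear_mulVec, spOfLinear_mulVec]
    simp only [Lm_apply, sympForm_add_left, sympForm_smul_left, sympForm_self, hed, hde,
      SL2.mul_entry]
    module)

theorem phi_mulVec {e d : Fin n ⊕ Fin n → F} (hed : Cfsg.sympForm n F e d = 1)
    (M : SpecialLinearGroup (Fin 2) F) (v : Fin n ⊕ Fin n → F) :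
    (phi e d hed M : Matrix (Fin n ⊕ Fin n) (Fin n ⊕ Fin n) F) *ᵥ v = Lm e d M v :=
  spOfLinear_mulVec n (Lm e d M) (Lm_form hed M) v

theorem phi_up {e d : Fin n ⊕ Fin n → F} (hed : Cfsg.sympForm n F e d = 1) (t : F) :
    phi e d hed (SL2.up t) = tv e (-t) := by
  apply sp_ext
  intro v
  rw [phi_mulVec, Lm_apply, tv_mulVec]
  simp only [SL2.up_00, SL2.up_01, SL2.up_10, SL2.up_11]
  module

theorem phi_lo {e d : Fin n ⊕ Fin n → F} (hed : Cfsg.sympForm n F e d = 1) (t : F) :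
    phi e d hed (SL2.lo t) = tv d t := by
  apply sp_ext
  intro v
  rw [phi_mulVec, Lm_apply, tv_mulVec]
  simp only [SL2.lo_00, SL2.lo_01, SL2.lo_10, SL2.lo_11]
  module

theorem map_upper {e d : Fin n ⊕ Fin n → F} (hed : Cfsg.sympForm n F e d = 1) :
    (upperUnipotentSL2 F).map (phi e d hed) = T e := by
  ext x
  rw [Subgroup.mem_map, mem_T]
  constructor
  · rintro ⟨y, hy, rfl⟩
    obtain ⟨t, rfl⟩ := SL2.mem_upper_iff.1 hy
    exact ⟨-t, phi_up hed t⟩
  · rintro ⟨c, rfl⟩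
    exact ⟨SL2.up (-c), SL2.up_mem _, by rw [phi_up, neg_neg]⟩

theorem map_lower {e d : Fin n ⊕ Fin n → F} (hed : Cfsg.sympForm n F e d = 1) :
    (lowerUnipotentSL2 F).map (phi e d hed) = T d := by
  ext x
  rw [Subgroup.mem_map, mem_T]
  constructor
  · rintro ⟨y, hy, rfl⟩
    obtain ⟨t, rfl⟩ := SL2.mem_lower_iff.1 hy
    exact ⟨t, phi_lo hed t⟩
  · rintro ⟨c, rfl⟩
    exact ⟨SL2.lo c, SL2.lo_mem _, phi_lo hed c⟩

theorem phi_injective {e d : Fin n ⊕ Fin n → F} (hed : Cfsg.sympForm n F e d = 1) :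
    Function.Injective (phi e d hed) := by
  have hde : Cfsg.sympForm n F d e = -1 := by rw [sympForm_swap, hed]
  rw [injective_iff_map_eq_one]
  intro M hM
  have h1 := phi_mulVec hed M e
  have h2 := phi_mulVec hed M d
  rw [hM, Submonoid.coe_one, Matrix.one_mulVec, Lm_apply] at h1 h2
  simp only [sympForm_self, hed, hde] at h1 h2
  have a1 := congrArg (fun x => Cfsg.sympForm n F x d) h1
  have a2 := congrArg (fun x => Cfsg.sympForm n F x e) h1
  have a3 := congrArg (fun x => Cfsg.sympForm n F x d) h2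
  have a4 := congrArg (fun x => Cfsg.sympForm n F x e) h2
  simp only [sympForm_add_left, sympForm_smul_left, sympForm_self, hed, hde] at a1 a2 a3 a4
  have o00 : (1 : SpecialLinearGroup (Fin 2) F) 0 0 = 1 := by simp
  have o01 : (1 : SpecialLinearGroup (Fin 2) F) 0 1 = 0 := by simp
  have o10 : (1 : SpecialLinearGroup (Fin 2) F) 1 0 = 0 := by simp
  have o11 : (1 : SpecialLinearGroup (Fin 2) F) 1 1 = 1 := by simp
  apply SL2.ext2
  · rw [o00]
    linear_combination -a1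
  · rw [o01]
    linear_combination -a3
  · rw [o10]
    linear_combination a2
  · rw [o11]
    linear_combination a4

theorem T_ne {e d : Fin n ⊕ Fin n → F} (hed : Cfsg.sympForm n F e d = 1) : T e ≠ T d := by
  rw [← map_upper hed, ← map_lower hed]
  intro h
  exact SL2.isRankOnePair.ne (Subgroup.map_injective (phi_injective hed) h).symm

theorem rankOne_hyp {e d : Fin n ⊕ Fin n → F} (hed : Cfsg.sympForm n F e d = 1) :
    IsRankOnePair (T e) (T d) := by
  have h := RankOne.map (phi e d hed) (RankOnePair_symm (SL2.isRankOnePair (k := F)))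
    (by rw [map_upper, map_lower]; exact T_ne hed)
  rwa [map_upper, map_lower] at h

theorem psl2_hyp {e d : Fin n ⊕ Fin n → F} (hed : Cfsg.sympForm n F e d = 1) :
    IsPSL2PairOver F (T e) (T d) := by
  refine ⟨phi e d hed, ?_, ?_, map_upper hed, map_lower hed⟩
  · rw [MonoidHom.range_eq_map, ← SL2.sup_eq_top, Subgroup.map_sup, map_upper, map_lower, sup_comm]
  · rw [(MonoidHom.ker_eq_bot_iff _).2 (phi_injective hed)]
    exact bot_le

theorem rankOne_T {p p' : Fin n ⊕ Fin n → F} (h : Cfsg.sympForm n F p p' ≠ 0) :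
    IsRankOnePair (T p) (T p') := by
  have hed : Cfsg.sympForm n F p ((Cfsg.sympForm n F p p')⁻¹ • p') = 1 := by
    rw [sympForm_smul_right, inv_mul_cancel₀ h]
  have := rankOne_hyp hed
  rwa [T_smul (inv_ne_zero h)] at this

theorem psl2_T {p p' : Fin n ⊕ Fin n → F} (h : Cfsg.sympForm n F p p' ≠ 0) :
    IsPSL2PairOver F (T p) (T p') := by
  have hed : Cfsg.sympForm n F p ((Cfsg.sympForm n F p p')⁻¹ • p') = 1 := by
    rw [sympForm_smul_right, inv_mul_cancel₀ h]
  have := psl2_hyp hed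
  rwa [T_smul (inv_ne_zero h)] at this

theorem form_ne_of_rankOne {p p' : Fin n ⊕ Fin n → F} (hp : p ≠ 0) (hp' : p' ≠ 0)
    (h : IsRankOnePair (T p) (T p')) : Cfsg.sympForm n F p p' ≠ 0 := by
  intro h0
  exact Root.RankOne_not_commute h (tv_mem p 1) (tv_ne_one hp one_ne_zero) (tv_mem p' 1)
    (tv_ne_one hp' one_ne_zero) (tv_comm h0 1 1)

/-- The set of all symplectic transvection subgroups. -/
def rootSet (n : ℕ) (F : Type*) [Field F] : Set (Subgroup (Matrix.symplecticGroup (Fin n) F)) :=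
  {A | ∃ p : Fin n ⊕ Fin n → F, p ≠ 0 ∧ A = T p}

theorem exists_map {p p' : Fin n ⊕ Fin n → F} (hp : p ≠ 0) (hp' : p' ≠ 0) :
    ∃ g : Matrix.symplecticGroup (Fin n) F,
      (g : Matrix (Fin n ⊕ Fin n) (Fin n ⊕ Fin n) F) *ᵥ p = p' := by
  obtain ⟨A, -, hA⟩ := exists_closure_transv_vec n (W := ⊤)
    (fun u _ hu => by
      obtain ⟨z, hz⟩ := exists_form_ne hu
      exact ⟨z, Submodule.mem_top, hz⟩) (u := p) (u' := p') Submodule.mem_top Submodule.mem_top hp hp'
  exact ⟨A, hA⟩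

theorem isRootSubgroupSet : IsRootSubgroupSet (rootSet n F) where
  commutative := by
    rintro _ ⟨p, -, rfl⟩
    exact isMulCommutative_T p
  ne_bot := by
    rintro _ ⟨p, hp, rfl⟩
    exact T_ne_bot hp
  generates := by
    rw [eq_top_iff, ← Cfsg.Agent.S0765.result n, Subgroup.closure_le]
    rintro x ⟨w, c, hx⟩
    have hx' : x = tv w c := Subtype.ext hx
    by_cases hw : w = 0
    · have : x = 1 := by
        rw [hx', hw]
        apply sp_ext
        intro v
        rw [tv_mulVec]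
        simp
      rw [this]
      exact one_mem _
    · have h1 : T w ≤ ⨆ A ∈ rootSet n F, A :=
        le_iSup₂ (f := fun (A : Subgroup (Matrix.symplecticGroup (Fin n) F))
          (_ : A ∈ rootSet n F) => A) (T w) ⟨w, hw, rfl⟩
      exact h1 (hx' ▸ tv_mem w c)
  conj_mem := by
    rintro _ ⟨p, hp, rfl⟩ g
    refine ⟨(g : Matrix (Fin n ⊕ Fin n) (Fin n ⊕ Fin n) F) *ᵥ p, ?_, conjBy_T g p⟩
    intro h0
    apply hp
    have := sp_inv_mulVec n g p
    rw [h0, Matrix.mulVec_zero] at this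
    exact this.symm
  pair := by
    rintro _ ⟨p, hp, rfl⟩ _ ⟨p', hp', rfl⟩
    by_cases h : Cfsg.sympForm n F p p' = 0
    · exact Or.inl (commutator_T h)
    · exact Or.inr (Or.inl (rankOne_T h))

theorem isConjClass (m : ℕ) : IsConjClassOfSubgroups (rootSet (m + 1) F) := by
  constructor
  · refine ⟨T (Pi.single (Sum.inl 0) 1), Pi.single (Sum.inl 0) 1, ?_, rfl⟩
    intro h
    have := congrFun h (Sum.inl 0)
    simp at this
  · rintro _ ⟨p, hp, rfl⟩ _ ⟨p', hp', rfl⟩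
    obtain ⟨g, hg⟩ := exists_map hp hp'
    exact ⟨g, by rw [conjBy_T, hg]⟩

theorem isDegenerate : IsDegenerateRootSet (rootSet n F) := by
  rintro _ ⟨p, hp, rfl⟩ _ ⟨p', hp', rfl⟩ hc
  by_cases h : Cfsg.sympForm n F p p' = 0
  · have h1 := hc.1
    rw [commutator_T h] at h1
    exact isRootSubgroupSet.ne_bot _ h1 rfl
  · exact not_commutatorCase_of_rankOne isRootSubgroupSet ⟨p, hp, rfl⟩ ⟨p', hp', rfl⟩
      (rankOne_T h) hc

theorem isKRoot : IsKRootSubgroupSet F (rootSet n F) := by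
  refine ⟨isRootSubgroupSet, ?_⟩
  rintro _ ⟨p, hp, rfl⟩ _ ⟨p', hp', rfl⟩ h
  exact psl2_T (form_ne_of_rankOne hp hp' h)

theorem isConnected : IsConnectedFamily (FAdj (rootSet n F)) (rootSet n F) := by
  rintro _ ⟨p, hp, rfl⟩ _ ⟨p', hp', rfl⟩
  have hz : ∃ z, Cfsg.sympForm n F p z ≠ 0 ∧ Cfsg.sympForm n F p' z ≠ 0 := by
    obtain ⟨a, ha⟩ := exists_form_ne hp
    obtain ⟨b, hb⟩ := exists_form_ne hp'
    by_cases h1 : Cfsg.sympForm n F p' a = 0
    · by_cases h2 : Cfsg.sympForm n F p b = 0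
      · refine ⟨a + b, ?_, ?_⟩
        · rw [sympForm_add_right, h2, add_zero]; exact ha
        · rw [sympForm_add_right, h1, zero_add]; exact hb
      · exact ⟨b, h2, hb⟩
    · exact ⟨a, ha, h1⟩
  obtain ⟨z, hz1, hz2⟩ := hz
  have hz0 : z ≠ 0 := by
    rintro rfl
    exact hz1 (sympForm_zero_right n p)
  have hz3 : Cfsg.sympForm n F z p' ≠ 0 := by
    rw [sympForm_swap]; exact neg_ne_zero.mpr hz2
  exact Relation.ReflTransGen.trans
    (Relation.ReflTransGen.single ⟨⟨p, hp, rfl⟩, ⟨z, hz0, rfl⟩, rankOne_T hz1⟩)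
    (Relation.ReflTransGen.single ⟨⟨z, hz0, rfl⟩, ⟨p', hp', rfl⟩, rankOne_T hz3⟩)

end symp

end Cfsg.Agent.Lib.Helper17.SympRoot
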