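import Cfsg.Agent.Lib.Helper17.UnitTransv2
import Cfsg.Agent.S0781

set_option autoImplicit false

namespace Cfsg.Agent.Lib.Helper17

open Matrix

section
variable {F : Type*} [Field F] [Fintype F] {q : ℕ}

/-- `SU_n(q)` is perfect -/
theorem su_commutator_eq_top (hF : Fintype.card F = q ^ 2) {n : ℕ} (hn : 3 ≤ n) (h32 : ¬ (n = 3 ∧ q = 2)) :
    commutator ↥(Cfsg.SU n F q) = ⊤ := by
  have hq2 := two_le_of_card_sq hF
  rw [eq_top_iff, ← TU_eq_top hF n h32, TU, Subgroup.closure_le, commutator_eq_closure]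
  rintro A ⟨v, c, hv0, hA⟩
  exact Subgroup.subset_closure (Cfsg.Agent.S0781.result hF n (by omega) A v c hv0 hA)

/-- an element fixing all isotropic points is central -/
theorem su_mem_center_of_fix (hF : Fintype.card F = q ^ 2) {n : ℕ} (h32 : ¬ (n = 3 ∧ q = 2))
    (g : ↥(Cfsg.SU n F q))
    (hg : ∀ v : Fin n → F, Cfsg.hermForm n F q v v = 0 → ∃ lam : F, suMat g *ᵥ v = lam • v) :
    g ∈ Subgroup.center ↥(Cfsg.SU n F q) := by
  have hle : TU n F q ≤ Subgroup.centralizer {g} := by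
    rw [TU, Subgroup.closure_le]
    rintro A ⟨v, c, hv0, hA⟩
    have hA' : suMat A = Cfsg.unitaryTransvection n q v c := hA
    rw [SetLike.mem_coe, Subgroup.mem_centralizer_singleton_iff]
    by_cases hv : v = 0
    · have : A = 1 := by
        apply suMat_injective
        rw [hA', suMat_one, hv]
        simp [Cfsg.unitaryTransvection]
      rw [this, one_mul, mul_one]
    obtain ⟨u, h1, h1', hu0⟩ := exists_hyp_partner hF n v hv hv0
    obtain ⟨κ, hκ0, hκ⟩ := exists_trace_zero hF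
    obtain ⟨a, ha⟩ := hg v hv0
    obtain ⟨b, hb⟩ := hg u hu0
    obtain ⟨d, hd⟩ := hg (v + κ • u) (by
      simp only [hermForm_add_left, hermForm_add_right hF, hermForm_smul_left, hermForm_smul_right, hv0, hu0, h1, h1',
        hκ]
      ring)
    rw [Matrix.mulVec_add, Matrix.mulVec_smul, ha, hb] at hd
    have e1 := congrArg (fun x => Cfsg.hermForm n F q x u) hd
    have e2 := congrArg (fun x => Cfsg.hermForm n F q x v) hd
    simp only [hermForm_add_left, hermForm_smul_left, hv0, hu0, h1, h1'] at e1 e2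
    have hab : a = b := by
      have e3 : κ * (b - d) = 0 := by linear_combination e2
      have e4 : b = d := sub_eq_zero.mp ((mul_eq_zero.mp e3).resolve_left hκ0)
      rw [e4]
      linear_combination e1
    have hnorm : a ^ (q + 1) = 1 := by
      have e5 := su_hermForm g v u
      change Cfsg.hermForm n F q (suMat g *ᵥ v) (suMat g *ᵥ u) = _ at e5
      rw [ha, hb, hermForm_smul_left, hermForm_smul_right, h1, ← hab] at e5
      rw [pow_succ]
      linear_combination e5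
    apply suMat_injective
    rw [suMat_mul, suMat_mul, hA', su_mul_transvection, ha, unitaryTransvection_smul, hnorm, mul_one]
  rw [TU_eq_top hF n h32] at hle
  rw [Subgroup.mem_center_iff]
  intro h
  have := hle (Subgroup.mem_top h)
  rw [Subgroup.mem_centralizer_singleton_iff] at this
  exact this

/-- the transvections with a given centre -/
def transvSub (q : ℕ) {n : ℕ} (v : Fin n → F) (hv0 : Cfsg.hermForm n F q v v = 0) : Subgroup ↥(Cfsg.SU n F q) where
  carrier := {A | ∃ c : F, suMat A = Cfsg.unitaryTransvection n q v c}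
  mul_mem' := by
    rintro A B ⟨c, hA⟩ ⟨d, hB⟩
    refine ⟨c + d, ?_⟩
    rw [suMat_mul, hA, hB, Matrix.ext_iff_mulVec]
    intro x
    rw [← Matrix.mulVec_mulVec, unitaryTransvection_mulVec, unitaryTransvection_mulVec, unitaryTransvection_mulVec,
      hermForm_add_left, hermForm_smul_left, hv0]
    module
  one_mem' := ⟨0, by simp [Cfsg.unitaryTransvection, suMat_one]⟩
  inv_mem' := by
    rintro A ⟨c, hA⟩
    refine ⟨-c, ?_⟩
    rw [Matrix.ext_iff_mulVec]
    intro x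
    have : x = suMat A *ᵥ (Cfsg.unitaryTransvection n q v (-c) *ᵥ x) := by
      rw [hA, unitaryTransvection_mulVec, unitaryTransvection_mulVec, hermForm_add_left, hermForm_smul_left, hv0]
      module
    conv_lhs => rw [this]
    rw [suMat_inv_mulVec]

omit [Fintype F] in
theorem transvSub_comm {n : ℕ} (v : Fin n → F) (hv0 : Cfsg.hermForm n F q v v = 0) :
    IsMulCommutative (transvSub q v hv0) := ⟨⟨by
  rintro ⟨A, c, hA⟩ ⟨B, d, hB⟩
  apply Subtype.ext
  apply suMat_injective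
  change suMat (A * B) = suMat (B * A)
  rw [suMat_mul, suMat_mul, hA, hB, Matrix.ext_iff_mulVec]
  intro x
  rw [← Matrix.mulVec_mulVec, ← Matrix.mulVec_mulVec]
  simp only [unitaryTransvection_mulVec, hermForm_add_left, hermForm_smul_left, hv0]
  module⟩⟩

/-- an isotropic vector perpendicular to `v` but not to `v'` -/
theorem exists_isotropic_perp_not_perp (hF : Fintype.card F = q ^ 2) (n : ℕ) (v v' : Fin n → F) (hv' : v' ≠ 0)
    (hv0' : Cfsg.hermForm n F q v' v' = 0) (hvv' : Cfsg.hermForm n F q v v' = 0) (hind : ∀ a : F, v ≠ a • v') :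
    ∃ w, Cfsg.hermForm n F q w w = 0 ∧ Cfsg.hermForm n F q w v = 0 ∧ Cfsg.hermForm n F q w v' ≠ 0 := by
  have hv'v := hermForm_eq_zero_comm hF hvv'
  obtain ⟨u', h1, h1', hu0'⟩ := exists_hyp_partner hF n v' hv' hv0'
  obtain ⟨c₀, hc₀⟩ : ∃ c₀, c₀ = Cfsg.hermForm n F q u' v := ⟨_, rfl⟩
  obtain ⟨z, hz⟩ : ∃ z, Cfsg.hermForm n F q z (v - c₀ ^ q • v') ≠ 0 := by
    by_contra hcon
    push Not at hcon
    exact hind _ (sub_eq_zero.mp (hermForm_right_eq_zero hF n _ hcon))
  rw [hermForm_sub_right hF, hermForm_smul_right, pow_q_pow_q hF] at hz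
  obtain ⟨δ, hδ⟩ : ∃ δ, δ = Cfsg.hermForm n F q z v - c₀ * Cfsg.hermForm n F q z v' := ⟨_, rfl⟩
  rw [← hδ] at hz
  obtain ⟨d, hd⟩ : ∃ d, d = (-c₀ / δ) • (z - Cfsg.hermForm n F q z v' • u') := ⟨_, rfl⟩
  have hdv' : Cfsg.hermForm n F q d v' = 0 := by
    rw [hd, hermForm_smul_left, hermForm_sub_left, hermForm_smul_left, h1']
    ring
  have hv'd := hermForm_eq_zero_comm hF hdv'
  have hdv : Cfsg.hermForm n F q d v = -c₀ := by
    rw [hd, hermForm_smul_left, hermForm_sub_left, hermForm_smul_left, ← hc₀]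
    have : Cfsg.hermForm n F q z v - Cfsg.hermForm n F q z v' * c₀ = δ := by rw [hδ]; ring
    rw [this]
    field_simp
  obtain ⟨s, hs⟩ : ∃ s, s = u' + d := ⟨_, rfl⟩
  obtain ⟨β, hβ⟩ := exists_trace_eq hF (-(Cfsg.hermForm n F q s s)) (by
    rw [neg_pow_q hF, hermForm_conj hF])
  have e1 : Cfsg.hermForm n F q s v' = 1 := by rw [hs, hermForm_add_left, h1', hdv', add_zero]
  have e2 : Cfsg.hermForm n F q v' s = 1 := hermForm_eq_one_comm hF e1
  have e3 : Cfsg.hermForm n F q s v = 0 := by rw [hs, hermForm_add_left, ← hc₀, hdv]; ring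
  refine ⟨s + β • v', ?_, ?_, ?_⟩
  · simp only [hermForm_add_left, hermForm_add_right hF, hermForm_smul_left, hermForm_smul_right, e1, e2, hv0']
    linear_combination hβ
  · simp only [hermForm_add_left, hermForm_smul_left, e3, hv'v]
    ring
  · simp only [hermForm_add_left, hermForm_smul_left, e1, hv0']
    simp

theorem normal_move_of_not_perp (hF : Fintype.card F = q ^ 2) {n : ℕ} (hn : 3 ≤ n) (h32 : ¬ (n = 3 ∧ q = 2))
    (N : Subgroup ↥(Cfsg.SU n F q)) [N.Normal] (g : ↥(Cfsg.SU n F q)) (hg : g ∈ N) (v : Fin n → F)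
    (hv0 : Cfsg.hermForm n F q v v = 0) (hne : Cfsg.hermForm n F q (suMat g *ᵥ v) v ≠ 0) (a b : Fin n → F)
    (ha0 : Cfsg.hermForm n F q a a = 0) (hb0 : Cfsg.hermForm n F q b b = 0)
    (hba : Cfsg.hermForm n F q b a ≠ 0) :
    ∃ m ∈ N, ∃ lam : F, lam ≠ 0 ∧ suMat m *ᵥ a = lam • b := by
  obtain ⟨k, -, hk1, hk2⟩ := exists_TU_hyp_pair hF hn h32 v ((Cfsg.hermForm n F q (suMat g *ᵥ v) v)⁻¹ • (suMat g *ᵥ v))
    a ((Cfsg.hermForm n F q b a)⁻¹ • b) hv0
    (by rw [hermForm_smul_left, hermForm_smul_right, su_hermForm, hv0]; ring)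
    (by rw [hermForm_smul_left, inv_mul_cancel₀ hne]) ha0
    (by rw [hermForm_smul_left, hermForm_smul_right, hb0]; ring)
    (by rw [hermForm_smul_left, inv_mul_cancel₀ hba])
  refine ⟨k * g * k⁻¹, ‹N.Normal›.conj_mem g hg k,
    Cfsg.hermForm n F q (suMat g *ᵥ v) v * (Cfsg.hermForm n F q b a)⁻¹, mul_ne_zero hne (inv_ne_zero hba), ?_⟩
  rw [Matrix.mulVec_smul] at hk2
  have hk3 : suMat k *ᵥ (suMat g *ᵥ v) =
      (Cfsg.hermForm n F q (suMat g *ᵥ v) v * (Cfsg.hermForm n F q b a)⁻¹) • b := by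
    rw [mul_smul, ← hk2, smul_smul, mul_inv_cancel₀ hne, one_smul]
  have hk4 : suMat k⁻¹ *ᵥ a = v := by rw [← hk1, suMat_inv_mulVec]
  rw [suMat_mul_mulVec, suMat_mul_mulVec, hk4, hk3]

/-- a non-central normal subgroup is transitive on isotropic points -/
theorem normal_trans (hF : Fintype.card F = q ^ 2) {n : ℕ} (hn : 3 ≤ n) (h32 : ¬ (n = 3 ∧ q = 2))
    (N : Subgroup ↥(Cfsg.SU n F q)) [N.Normal] (hN : ¬ N ≤ Subgroup.center ↥(Cfsg.SU n F q)) (a b : Fin n → F)
    (ha : a ≠ 0) (hb : b ≠ 0) (ha0 : Cfsg.hermForm n F q a a = 0) (hb0 : Cfsg.hermForm n F q b b = 0) :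
    ∃ m ∈ N, ∃ lam : F, lam ≠ 0 ∧ suMat m *ᵥ a = lam • b := by
  have hq0 : q ≠ 0 := by have := two_le_of_card_sq hF; omega
  obtain ⟨g, hgN, hgZ⟩ := SetLike.not_le_iff_exists.mp hN
  obtain ⟨v, hv0, hv⟩ : ∃ v : Fin n → F, Cfsg.hermForm n F q v v = 0 ∧ ∀ lam : F, suMat g *ᵥ v ≠ lam • v := by
    by_contra hcon
    push Not at hcon
    exact hgZ (su_mem_center_of_fix hF h32 g hcon)
  -- an element of `N` moving an isotropic vector to a non-perpendicular one
  obtain ⟨g', hg'N, v', hv0', hne⟩ : ∃ g' ∈ N, ∃ v' : Fin n → F, Cfsg.hermForm n F q v' v' = 0 ∧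
      Cfsg.hermForm n F q (suMat g' *ᵥ v') v' ≠ 0 := by
    by_cases hperp : Cfsg.hermForm n F q (suMat g *ᵥ v) v = 0
    swap
    · exact ⟨g, hgN, v, hv0, hperp⟩
    have hgv : suMat g *ᵥ v ≠ 0 := by
      intro h0
      exact hv 0 (by rw [h0, zero_smul])
    have hgv0 : Cfsg.hermForm n F q (suMat g *ᵥ v) (suMat g *ᵥ v) = 0 := by rw [su_hermForm, hv0]
    obtain ⟨w, hw0, hwv, hwv'⟩ := exists_isotropic_perp_not_perp hF n v (suMat g *ᵥ v) hgv hgv0
      (hermForm_eq_zero_comm hF hperp) (by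
        intro c hc
        by_cases hc0 : c = 0
        · rw [hc0, zero_smul] at hc
          rw [hc, Matrix.mulVec_zero] at hgv
          exact hgv rfl
        · apply hv c⁻¹
          conv_rhs => rw [hc]
          rw [smul_smul, inv_mul_cancel₀ hc0, one_smul])
    obtain ⟨κ, hκ0, hκ⟩ := exists_trace_zero hF
    have hvw := hermForm_eq_zero_comm hF hwv
    have htv : suMat (transvSU hF w κ hw0 hκ) *ᵥ v = v := by
      rw [transvSU_mulVec, hvw, mul_zero, zero_smul, add_zero]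
    have htv' : suMat (transvSU hF w κ hw0 hκ)⁻¹ *ᵥ v = v := by
      conv_lhs => rw [← htv]
      rw [suMat_inv_mulVec]
    refine ⟨transvSU hF w κ hw0 hκ * g * (transvSU hF w κ hw0 hκ)⁻¹ * g⁻¹,
      Subgroup.mul_mem _ (‹N.Normal›.conj_mem g hgN _) (Subgroup.inv_mem _ hgN), suMat g *ᵥ v, hgv0, ?_⟩
    rw [suMat_mul_mulVec, suMat_inv_mulVec, suMat_mul_mulVec, htv', suMat_mul_mulVec, transvSU_mulVec,
      hermForm_add_left, hermForm_smul_left, hgv0, zero_add]
    have : Cfsg.hermForm n F q (suMat g *ᵥ v) w ≠ 0 := by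
      intro h0
      exact hwv' (hermForm_eq_zero_comm hF h0)
    exact mul_ne_zero (mul_ne_zero hκ0 this) hwv'
  obtain ⟨x, hx0, hax, hbx⟩ := exists_isotropic_not_perp hF n a b ha hb ha0 hb0
  have hxa : Cfsg.hermForm n F q x a ≠ 0 := fun h0 => hax (hermForm_eq_zero_comm hF h0)
  obtain ⟨m₁, hm₁, l₁, hl₁, e₁⟩ := normal_move_of_not_perp hF hn h32 N g' hg'N v' hv0' hne a x ha0 hx0 hxa
  obtain ⟨m₂, hm₂, l₂, hl₂, e₂⟩ := normal_move_of_not_perp hF hn h32 N g' hg'N v' hv0' hne x b hx0 hb0 hbx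
  refine ⟨m₂ * m₁, Subgroup.mul_mem _ hm₂ hm₁, l₁ * l₂, mul_ne_zero hl₁ hl₂, ?_⟩
  rw [suMat_mul_mulVec, e₁, Matrix.mulVec_smul, e₂, smul_smul]

theorem exists_isotropic_ne_zero (hF : Fintype.card F = q ^ 2) {n : ℕ} (hn : 2 ≤ n) :
    ∃ v : Fin n → F, v ≠ 0 ∧ Cfsg.hermForm n F q v v = 0 := by
  obtain ⟨e₂, f₂, he0, hf0, h1⟩ := exists_hyp_pair_two hF
  obtain ⟨k, rfl⟩ : ∃ k, n = k + 2 := ⟨n - 2, by omega⟩
  refine ⟨appendEquiv F k 2 (0, e₂), ?_, ?_⟩
  · intro h0
    rw [LinearEquiv.map_eq_zero_iff] at h0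
    have : e₂ = 0 := congrArg Prod.snd h0
    rw [this, hermForm_zero_left] at h1
    exact zero_ne_one h1
  · rw [hermForm_append, he0, hermForm_zero_left, add_zero]

/-- a non-central normal subgroup of `SU_n(q)` is everything -/
theorem normal_eq_top (hF : Fintype.card F = q ^ 2) {n : ℕ} (hn : 3 ≤ n) (h32 : ¬ (n = 3 ∧ q = 2))
    (N : Subgroup ↥(Cfsg.SU n F q)) [N.Normal] (hN : ¬ N ≤ Subgroup.center ↥(Cfsg.SU n F q)) : N = ⊤ := by
  obtain ⟨v₀, hv₀, hv₀₀⟩ := exists_isotropic_ne_zero hF (n := n) (by omega)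
  have hsup : N ⊔ transvSub q v₀ hv₀₀ = ⊤ := by
    rw [eq_top_iff, ← TU_eq_top hF n h32, TU, Subgroup.closure_le]
    rintro A ⟨b, c, hb0, hA⟩
    have hA' : suMat A = Cfsg.unitaryTransvection n q b c := hA
    by_cases hb : b = 0
    · have : A = 1 := by
        apply suMat_injective
        rw [hA', suMat_one, hb]
        simp [Cfsg.unitaryTransvection]
      rw [this]
      exact Subgroup.one_mem _
    obtain ⟨m, hm, lam, hlam, e⟩ := normal_trans hF hn h32 N hN b v₀ hb hv₀ hb0 hv₀₀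
    have hx : m * A * m⁻¹ ∈ transvSub q v₀ hv₀₀ := by
      refine ⟨c * lam ^ (q + 1), ?_⟩
      have h1 : suMat (m * A * m⁻¹) * suMat m = Cfsg.unitaryTransvection n q v₀ (c * lam ^ (q + 1)) * suMat m := by
        rw [← unitaryTransvection_smul, ← e, ← su_mul_transvection, ← hA', ← suMat_mul, ← suMat_mul,
          inv_mul_cancel_right]
      have h2 := congrArg (fun M => M * suMat m⁻¹) h1
      simp only [Matrix.mul_assoc, ← suMat_mul, mul_inv_cancel, suMat_one, Matrix.mul_one] at h2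
      rw [mul_inv_cancel_right] at h2
      exact h2
    have hdec : A = (m⁻¹ * ((m * A * m⁻¹) * m * (m * A * m⁻¹)⁻¹)) * (m * A * m⁻¹) := by group
    rw [SetLike.mem_coe, hdec]
    exact Subgroup.mul_mem _ (Subgroup.mem_sup_left (Subgroup.mul_mem _ (Subgroup.inv_mem _ hm)
      (‹N.Normal›.conj_mem m hm _))) (Subgroup.mem_sup_right hx)
  have := Subgroup.Normal.commutator_le_of_self_sup_commutative_eq_top hsup (transvSub_comm v₀ hv₀₀)
  rw [su_commutator_eq_top hF hn h32] at this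
  exact eq_top_iff.mpr this

/-- `PSU_n(q)` is simple -/
theorem psu_isSimpleGroup (hF : Fintype.card F = q ^ 2) {n : ℕ} (hn : 3 ≤ n) (h32 : ¬ (n = 3 ∧ q = 2)) :
    IsSimpleGroup (↥(Cfsg.SU n F q) ⧸ Subgroup.center ↥(Cfsg.SU n F q)) := by
  have hnt : Nontrivial (↥(Cfsg.SU n F q) ⧸ Subgroup.center ↥(Cfsg.SU n F q)) := by
    by_contra hcon
    rw [not_nontrivial_iff_subsingleton, QuotientGroup.subsingleton_iff,
      ← commutator_eq_bot_iff_center_eq_top, su_commutator_eq_top hF hn h32] at hcon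
    obtain ⟨v₀, hv₀, hv₀₀⟩ := exists_isotropic_ne_zero hF (n := n) (by omega)
    obtain ⟨κ, hκ0, hκ⟩ := exists_trace_zero hF
    have h1 : transvSU hF v₀ κ hv₀₀ hκ ∈ (⊤ : Subgroup ↥(Cfsg.SU n F q)) := trivial
    rw [hcon, Subgroup.mem_bot] at h1
    have h2 := rank_transvection_sub_one hF v₀ κ hv₀ hκ0
    have h3 : suMat (transvSU hF v₀ κ hv₀₀ hκ) = Cfsg.unitaryTransvection n q v₀ κ := rfl
    rw [← h3, h1, suMat_one, sub_self, Matrix.rank_zero] at h2
    exact zero_ne_one h2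
  refine ⟨fun H hH => ?_⟩
  have hN : (H.comap (QuotientGroup.mk' (Subgroup.center ↥(Cfsg.SU n F q)))).Normal := hH.comap _
  by_cases hle : H.comap (QuotientGroup.mk' (Subgroup.center ↥(Cfsg.SU n F q))) ≤
      Subgroup.center ↥(Cfsg.SU n F q)
  · left
    rw [eq_bot_iff]
    intro x hx
    obtain ⟨g, rfl⟩ := QuotientGroup.mk'_surjective _ x
    rw [Subgroup.mem_bot]
    exact (QuotientGroup.eq_one_iff g).2 (hle hx)
  · right
    have h1 := normal_eq_top hF hn h32 _ hle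
    rw [eq_top_iff]
    intro x _
    obtain ⟨g, rfl⟩ := QuotientGroup.mk'_surjective _ x
    have : g ∈ H.comap (QuotientGroup.mk' (Subgroup.center ↥(Cfsg.SU n F q))) := by
      rw [h1]; trivial
    exact this

end

end Cfsg.Agent.Lib.Helper17
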